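import Groth.Prelude.Def_CechOX
import Mathlib.AlgebraicGeometry.Modules.Sheaf
import Mathlib.CategoryTheory.Abelian.Exact
import Mathlib.CategoryTheory.Limits.Shapes.ConcreteCategory
import Mathlib.Algebra.Homology.ShortComplex.Abelian
import Mathlib.Algebra.Category.Grp.EpiMono
import Mathlib.Algebra.Category.Grp.Limits
import Mathlib.CategoryTheory.Limits.FunctorCategory.Basic
import Mathlib.CategoryTheory.Limits.Preserves.FunctorCategory

/-!
The Čech complex of sheaves of a covering is a resolution.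
-/

universe u

open CategoryTheory CategoryTheory.Limits AlgebraicGeometry TopologicalSpace Opposite Simplicial

set_option backward.isDefEq.respectTransparency.types false

namespace Groth.Agent.Cx47

variable {X : Scheme.{u}}

/-- Restriction of sections. -/
noncomputable abbrev res (M : X.Modules) {W W' : X.Opens} (h : W' ≤ W) (x : Γ(M, W)) : Γ(M, W') :=
  (M.presheaf.map (homOfLE h).op).hom x

lemma res_res (M : X.Modules) {W W' W'' : X.Opens} (h : W' ≤ W) (h' : W'' ≤ W') (x : Γ(M, W)) :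
    res M h' (res M h x) = res M (h'.trans h) x := by
  rw [res, res, res, ← ConcreteCategory.comp_apply, ← Functor.map_comp]
  rfl

lemma res_self (M : X.Modules) {W : X.Opens} (h : W ≤ W) (x : Γ(M, W)) : res M h x = x := by
  rw [res, show (homOfLE h).op = 𝟙 (op W) from Subsingleton.elim _ _, M.presheaf.map_id]
  rfl

lemma res_app {M N : X.Modules} (φ : M ⟶ N) {W W' : X.Opens} (h : W' ≤ W) (x : Γ(M, W)) :
    φ.app W' (res M h x) = res N h (φ.app W x) :=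
  congr($(φ.mapPresheaf.naturality (homOfLE h).op).hom x)

lemma app_injective_of_mono {M N : X.Modules} (φ : M ⟶ N) [Mono φ] (W : X.Opens) :
    Function.Injective (φ.app W) := by
  have : Mono ((Scheme.Modules.toPresheaf X).map φ) := inferInstance
  have : Mono (((Scheme.Modules.toPresheaf X).map φ).app (op W)) := inferInstance
  exact (AddCommGrpCat.mono_iff_injective _).mp this

lemma exact_of_locally {M N L : X.Modules} (f : M ⟶ N) (g : N ⟶ L) (w : f ≫ g = 0)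
    (h : ∀ (W : X.Opens) (t : Γ(N, W)), g.app W t = 0 → ∀ z : W,
      ∃ (O : X.Opens) (i : O ≤ W) (_ : z.1 ∈ O) (s : Γ(M, O)), f.app O s = res N i t) :
    (ShortComplex.mk f g w).Exact := by
  rw [ShortComplex.exact_iff_epi_kernel_lift]
  refine ⟨fun {Z} a b e => ?_⟩
  ext W t
  have ht : g.app W ((kernel.ι g).app W t) = 0 := congr($(kernel.condition g).app W t)
  choose O i hz s hs using h W _ ht
  refine TopCat.Sheaf.eq_of_locally_eq' (F := ⟨Z.presheaf, Z.isSheaf⟩) O W (fun z => homOfLE (i z))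
    (fun z hzW => Opens.mem_iSup.mpr ⟨⟨z, hzW⟩, hz _⟩) _ _ fun z => ?_
  change res Z (i z) (a.app W t) = res Z (i z) (b.app W t)
  rw [← res_app, ← res_app]
  have h1 : (kernel.lift g f w).app (O z) (s z) = res _ (i z) t := by
    refine app_injective_of_mono (kernel.ι g) (O z) ?_
    rw [res_app]
    refine Eq.trans ?_ (hs z)
    exact congr($(kernel.lift_ι g f w).app (O z) (s z))
  rw [← h1]
  exact congr($(e).app (O z) (s z))

variable {ι : Type u} (𝒰 : ι → X.Opens)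

/-- The open of a tuple. -/
noncomputable abbrev tOpen {n : ℕ} (i : Fin n → ι) : X.Opens := ∏ᶜ (𝒰 ∘ i)

lemma tOpen_le {n : ℕ} (i : Fin n → ι) (j : Fin n) : tOpen 𝒰 i ≤ 𝒰 (i j) := leOfHom (Pi.π (𝒰 ∘ i) j)

lemma le_tOpen {n : ℕ} {i : Fin n → ι} {V : X.Opens} (h : ∀ j, V ≤ 𝒰 (i j)) : V ≤ tOpen 𝒰 i :=
  leOfHom (Pi.lift (f := 𝒰 ∘ i) fun j => homOfLE (h j))

/-- `V ∩ U_i`, as it appears in the sections of the Čech complex of sheaves. -/
noncomputable abbrev cut {n : ℕ} (i : Fin n → ι) (V : X.Opens) : X.Opens :=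
  (tOpen 𝒰 i).ι ''ᵁ ((tOpen 𝒰 i).ι ⁻¹ᵁ V)

lemma cut_eq {n : ℕ} (i : Fin n → ι) (V : X.Opens) : cut 𝒰 i V = tOpen 𝒰 i ⊓ V := by
  rw [cut, Scheme.Hom.image_preimage_eq_opensRange_inf, Scheme.Opens.opensRange_ι]

lemma cut_mono {n : ℕ} (i : Fin n → ι) {V V' : X.Opens} (h : V' ≤ V) : cut 𝒰 i V' ≤ cut 𝒰 i V := by
  rw [cut_eq, cut_eq]; exact inf_le_inf_left _ h

lemma cut_comp_le {m n : ℕ} (i : Fin n → ι) (φ : Fin m → Fin n) (V : X.Opens) :
    cut 𝒰 i V ≤ cut 𝒰 (i ∘ φ) V := by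
  rw [cut_eq, cut_eq]
  exact inf_le_inf_right _ (le_tOpen 𝒰 fun j => tOpen_le 𝒰 i (φ j))

lemma cut_le_cons {n : ℕ} {k : ι} {V : X.Opens} (h : V ≤ 𝒰 k) (i : Fin n → ι) :
    cut 𝒰 i V ≤ cut 𝒰 (Fin.cons k i : Fin (n + 1) → ι) V := by
  rw [cut_eq, cut_eq]
  refine le_inf (le_tOpen 𝒰 fun j => ?_) inf_le_right
  induction j using Fin.cases with
  | zero => simpa using inf_le_right.trans h
  | succ j => simpa using inf_le_left.trans (tOpen_le 𝒰 i j)

lemma res_cut_congr (F : X.Modules) {n : ℕ} {V : X.Opens} (s : ∀ i : Fin n → ι, Γ(F, cut 𝒰 i V))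
    {i i' : Fin n → ι} (h : i = i') {W : X.Opens} (hW : W ≤ cut 𝒰 i V) :
    res F hW (s i) = res F (hW.trans_eq (by rw [h])) (s i') := by
  subst h; rfl

variable (F : X.Modules)

/-- The projection to the summand of a tuple. -/
noncomputable abbrev cπ (n : ℕ) (i : Fin (n + 1) → ι) :
    ((CechOX.cechSh 𝒰).obj F).X n ⟶ (CechOX.pushRestr (tOpen 𝒰 i)).obj F :=
  Pi.π (fun i : Fin (n + 1) → ι => (CechOX.pushRestr (tOpen 𝒰 i)).obj F) i

/-- The components of a section of the Čech complex. -/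
noncomputable def comp {n : ℕ} (V : X.Opens) (s : Γ(((CechOX.cechSh 𝒰).obj F).X n, V))
    (i : Fin (n + 1) → ι) : Γ(F, cut 𝒰 i V) :=
  (cπ 𝒰 F n i).app V s

lemma comp_bijective (n : ℕ) (V : X.Opens) : Function.Bijective (comp 𝒰 F (n := n) V) := by
  let G : X.Modules ⥤ AddCommGrpCat.{u} :=
    Scheme.Modules.toPresheaf X ⋙ (evaluation _ AddCommGrpCat.{u}).obj (op V)
  let f := fun i : Fin (n + 1) → ι => (CechOX.pushRestr (tOpen 𝒰 i)).obj F
  have : HasLimitsOfShape (Discrete (Fin (n + 1) → ι)) AddCommGrpCat.{u} := inferInstance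
  have := evaluation_preservesLimitsOfShape (C := AddCommGrpCat.{u}) (J := Discrete (Fin (n + 1) → ι)) (op V)
  have hG : PreservesLimitsOfShape (Discrete (Fin (n + 1) → ι)) G := comp_preservesLimitsOfShape _ _
  have e : (comp 𝒰 F (n := n) V : G.obj (∏ᶜ f) → _) =
      (Concrete.productEquiv fun i => G.obj (f i)) ∘ (PreservesProduct.iso G f).hom := by
    funext s i
    rw [Function.comp_apply, Concrete.productEquiv_apply_apply, ← ConcreteCategory.comp_apply,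
      PreservesProduct.iso_hom, piComparison_comp_π]
    rfl
  rw [e]
  exact (Concrete.productEquiv fun i => G.obj (f i)).bijective.comp
    ((ConcreteCategory.bijective_of_isIso (PreservesProduct.iso G f).hom))

lemma sum_app {M N : X.Modules} {m : ℕ} (φ : Fin m → (M ⟶ N)) (V : X.Opens) (x : Γ(M, V)) :
    (∑ j, φ j).app V x = ∑ j, (φ j).app V x := by
  induction m with
  | zero => simp
  | succ m ih =>
    rw [Fin.sum_univ_succ, Fin.sum_univ_succ]
    exact congrArg ((φ 0).app V x + ·) (ih _)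

lemma comp_d (n : ℕ) (V : X.Opens) (s : Γ(((CechOX.cechSh 𝒰).obj F).X n, V)) (i : Fin (n + 2) → ι) :
    comp 𝒰 F V ((((CechOX.cechSh 𝒰).obj F).d n (n + 1)).app V s) i =
      ∑ j : Fin (n + 2), (-1 : ℤ) ^ (j : ℕ) • res F (cut_comp_le 𝒰 i j.succAbove V) (comp 𝒰 F V s (i ∘ j.succAbove)) := by
  let P := CechOX.pushRestrFam.flip.obj F
  let C : CosimplicialObject X.Modules :=
    (FormalCoproduct.cosimplicialObjectFunctor (FormalCoproduct.mk _ 𝒰).cech).obj P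
  have hd : ((CechOX.cechSh 𝒰).obj F).d n (n + 1) =
      AlgebraicTopology.AlternatingCofaceMapComplex.objD C n :=
    CochainComplex.of_d (fun k => C.obj ⦋k⦌) (AlgebraicTopology.AlternatingCofaceMapComplex.objD C) n
  have hle : ∀ j : Fin (n + 2), tOpen 𝒰 i ≤ tOpen 𝒰 (i ∘ j.succAbove) := fun j =>
    le_tOpen 𝒰 fun b => tOpen_le 𝒰 i (j.succAbove b)
  have key : ∀ j : Fin (n + 2), C.δ j ≫ cπ 𝒰 F (n + 1) i =
      cπ 𝒰 F n (i ∘ j.succAbove) ≫ CechOX.pushRestrMapApp (hle j) F := fun j => Pi.lift_π _ _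
  have hs : ((CechOX.cechSh 𝒰).obj F).d n (n + 1) ≫ cπ 𝒰 F (n + 1) i =
      ∑ j : Fin (n + 2), (-1 : ℤ) ^ (j : ℕ) • (cπ 𝒰 F n (i ∘ j.succAbove) ≫ CechOX.pushRestrMapApp (hle j) F) := by
    rw [hd]
    refine (Preadditive.sum_comp _ _ _).trans (Finset.sum_congr rfl fun j _ => ?_)
    refine (Preadditive.zsmul_comp _ _ _).trans ?_
    rw [← key j]
    rfl
  refine (congr($(hs).app V s)).trans ((sum_app _ V s).trans (Finset.sum_congr rfl fun j _ => ?_))
  generalize ((-1 : ℤ) ^ (j : ℕ)) = z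
  exact map_zsmul (AddMonoidHom.mk' (fun φ : _ ⟶ (CechOX.pushRestr (tOpen 𝒰 i)).obj F => φ.app V s)
    fun _ _ => rfl) z _

lemma comp_d0 (V : X.Opens) (s : Γ(((CechOX.cechSh 𝒰).obj F).X 0, V)) (i : Fin 2 → ι) :
    comp 𝒰 F V ((((CechOX.cechSh 𝒰).obj F).d 0 1).app V s) i =
      res F (cut_comp_le 𝒰 i (0 : Fin 2).succAbove V) (comp 𝒰 F V s (i ∘ (0 : Fin 2).succAbove)) -
        res F (cut_comp_le 𝒰 i (1 : Fin 2).succAbove V) (comp 𝒰 F V s (i ∘ (1 : Fin 2).succAbove)) := by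
  refine (comp_d 𝒰 F 0 V s i).trans ((Fin.sum_univ_two (f := fun j : Fin 2 => (-1 : ℤ) ^ (j : ℕ) •
    res F (cut_comp_le 𝒰 i j.succAbove V) (comp 𝒰 F V s (i ∘ j.succAbove)))).trans ?_)
  simp only [Fin.val_zero, pow_zero, one_smul, Fin.val_one, pow_one, neg_smul]
  exact (sub_eq_add_neg _ _).symm

lemma comp_res {n : ℕ} {V V' : X.Opens} (h : V' ≤ V) (s : Γ(((CechOX.cechSh 𝒰).obj F).X n, V))
    (i : Fin (n + 1) → ι) : comp 𝒰 F V' (res _ h s) i = res F (cut_mono 𝒰 i h) (comp 𝒰 F V s i) :=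
  res_app (cπ 𝒰 F n i) h s

lemma comp_aug (V : X.Opens) (x : Γ(F, V)) (i : Fin 1 → ι) :
    comp 𝒰 F V ((CechOX.cechShAug 𝒰 F).app V x) i =
      res F ((tOpen 𝒰 i).ι.image_preimage_le V) x :=
  congr($(Pi.lift_π (f := fun i : Fin 1 → ι => (CechOX.pushRestr (tOpen 𝒰 i)).obj F)
    (fun i => (Scheme.Modules.restrictAdjunction (∏ᶜ (𝒰 ∘ i)).ι).unit.app F) i).app V x)

lemma mono_aug (h𝒰 : ⨆ i, 𝒰 i = ⊤) : Mono (CechOX.cechShAug 𝒰 F) := by
  have hinj : ∀ W, Function.Injective ((CechOX.cechShAug 𝒰 F).app W) := fun W x y hxy => by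
    have hle : ∀ k, W ⊓ 𝒰 k ≤ cut 𝒰 (fun _ : Fin 1 => k) W := fun k => by
      rw [cut_eq]
      exact le_inf (le_tOpen 𝒰 fun _ => inf_le_right) inf_le_left
    refine TopCat.Sheaf.eq_of_locally_eq' (F := ⟨F.presheaf, F.isSheaf⟩) (fun k => W ⊓ 𝒰 k) W
      (fun k => homOfLE inf_le_left) (fun z hz => ?_) _ _ fun k => ?_
    · obtain ⟨k, hk⟩ := Opens.mem_iSup.1 (show z ∈ ⨆ i, 𝒰 i by rw [h𝒰]; exact Set.mem_univ _)
      exact Opens.mem_iSup.mpr ⟨k, hz, hk⟩
    · have h := congrArg (fun s => res F (hle k) (comp 𝒰 F W s fun _ => k)) hxy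
      simp only [comp_aug, res_res] at h
      exact h
  refine ⟨fun {Z} a b e => ?_⟩
  ext W x
  exact hinj W (congr($(e).app W x))

lemma aug_d : CechOX.cechShAug 𝒰 F ≫ ((CechOX.cechSh 𝒰).obj F).d 0 1 = 0 := by
  ext W x
  apply (comp_bijective 𝒰 F 1 W).1
  funext i
  refine (comp_d0 𝒰 F W ((CechOX.cechShAug 𝒰 F).app W x) i).trans ?_
  rw [comp_aug, comp_aug, res_res, res_res, sub_self]
  exact (map_zero ((cπ 𝒰 F 1 i).app W).hom).symm

lemma exact_aug (h𝒰 : ⨆ i, 𝒰 i = ⊤) :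
    (ShortComplex.mk _ _ (aug_d 𝒰 F)).Exact := by
  refine exact_of_locally _ _ _ fun W t ht z => ?_
  obtain ⟨k, hk⟩ := Opens.mem_iSup.1 (show z.1 ∈ ⨆ i, 𝒰 i by rw [h𝒰]; exact Set.mem_univ _)
  let O : X.Opens := W ⊓ 𝒰 k
  have hO : O ≤ W := inf_le_left
  have hck : O ≤ cut 𝒰 (fun _ : Fin 1 => k) O := by
    rw [cut_eq]; exact le_inf (le_tOpen 𝒰 fun _ => inf_le_right) le_rfl
  let t' := res _ hO t
  refine ⟨O, hO, ⟨z.2, hk⟩, res F hck (comp 𝒰 F O t' fun _ => k), (comp_bijective 𝒰 F 0 O).1 ?_⟩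
  funext i
  rw [comp_aug, res_res]
  have hd : (((CechOX.cechSh 𝒰).obj F).d 0 1).app O t' = 0 := by
    rw [res_app, ht]; exact map_zero _
  have hc := cut_le_cons 𝒰 (k := k) (V := O) inf_le_right i
  have h := congrArg (fun s => res F hc (comp 𝒰 F O s (Fin.cons k i : Fin 2 → ι))) hd
  simp only [comp_d0] at h
  rw [show comp 𝒰 F O (0 : Γ(((CechOX.cechSh 𝒰).obj F).X _, O)) (Fin.cons k i : Fin 2 → ι) = 0 from map_zero _,
    show res F hc 0 = 0 from map_zero _, res, map_sub] at h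
  change res F hc (res F _ _) - res F hc (res F _ _) = 0 at h
  rw [res_res, res_res, res_cut_congr 𝒰 F (comp 𝒰 F O t') (show (Fin.cons k i : Fin 2 → ι) ∘ (0 : Fin 2).succAbove = i from
      funext fun j => by simp),
    res_cut_congr 𝒰 F (comp 𝒰 F O t') (show (Fin.cons k i : Fin 2 → ι) ∘ (1 : Fin 2).succAbove = fun _ => k from
      funext fun j => by rw [Subsingleton.elim j 0]; rfl), res_self, sub_eq_zero] at h
  exact h.symm

lemma exactAt (h𝒰 : ⨆ i, 𝒰 i = ⊤) (p : ℕ) : ((CechOX.cechSh 𝒰).obj F).ExactAt (p + 1) := by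
  rw [HomologicalComplex.exactAt_iff' _ p (p + 1) (p + 2) (by simp) (by simp)]
  refine exact_of_locally _ _ _ fun W t ht z => ?_
  obtain ⟨k, hk⟩ := Opens.mem_iSup.1 (show z.1 ∈ ⨆ i, 𝒰 i by rw [h𝒰]; exact Set.mem_univ _)
  let O : X.Opens := W ⊓ 𝒰 k
  have hO : O ≤ W := inf_le_left
  have hcons : ∀ {m : ℕ} (i : Fin m → ι), cut 𝒰 i O ≤ cut 𝒰 (Fin.cons k i : Fin (m + 1) → ι) O :=
    fun i => cut_le_cons 𝒰 inf_le_right i
  let c := comp 𝒰 F O (res _ hO t)
  obtain ⟨s, hs⟩ := (comp_bijective 𝒰 F p O).2 fun i => res F (hcons i) (c (Fin.cons k i))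
  refine ⟨O, hO, ⟨z.2, hk⟩, s, (comp_bijective 𝒰 F (p + 1) O).1 ?_⟩
  funext i
  refine (comp_d 𝒰 F p O s i).trans ?_
  have hd : (((CechOX.cechSh 𝒰).obj F).d (p + 1) (p + 2)).app O (res _ hO t) = 0 := by
    rw [res_app, ht]; exact map_zero _
  have h := congrArg (fun x => res F (hcons i) (comp 𝒰 F O x (Fin.cons k i : Fin (p + 3) → ι))) hd
  simp only [comp_d] at h
  rw [show comp 𝒰 F O (0 : Γ(((CechOX.cechSh 𝒰).obj F).X _, O)) (Fin.cons k i : Fin (p + 3) → ι) = 0 from map_zero _,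
    show res F (hcons i) 0 = 0 from map_zero _, Fin.sum_univ_succ, res, map_add, map_sum] at h
  simp only [map_zsmul] at h
  have h0 : res F (hcons i) (res F (cut_comp_le 𝒰 (Fin.cons k i : Fin (p + 3) → ι) (0 : Fin (p + 3)).succAbove O)
      (c ((Fin.cons k i : Fin (p + 3) → ι) ∘ (0 : Fin (p + 3)).succAbove))) = c i := by
    rw [res_res, res_cut_congr 𝒰 F c (show (Fin.cons k i : Fin (p + 3) → ι) ∘ (0 : Fin (p + 3)).succAbove = i from
      funext fun j => by simp), res_self]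
  have hj : ∀ j : Fin (p + 2), res F (hcons i) (res F (cut_comp_le 𝒰 (Fin.cons k i : Fin (p + 3) → ι) j.succ.succAbove O)
      (c ((Fin.cons k i : Fin (p + 3) → ι) ∘ j.succ.succAbove))) =
        res F (cut_comp_le 𝒰 i j.succAbove O) (comp 𝒰 F O s (i ∘ j.succAbove)) := fun j => by
    rw [hs, res_res, res_res, res_cut_congr 𝒰 F c
      (show (Fin.cons k i : Fin (p + 3) → ι) ∘ j.succ.succAbove = Fin.cons k (i ∘ j.succAbove) from
        funext fun b => by induction b using Fin.cases <;> simp)]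
  simp only [Fin.val_zero, pow_zero, one_smul, Fin.val_succ, pow_succ, mul_neg, mul_one, neg_smul,
    Finset.sum_neg_distrib] at h
  have h' := sub_eq_zero.1 ((sub_eq_add_neg _ _).trans h)
  exact ((h0.symm.trans h').trans (Finset.sum_congr rfl fun j _ =>
    congrArg (fun x => (-1 : ℤ) ^ (j : ℕ) • x) (hj j))).symm

theorem cechSh_resolution (h𝒰 : ⨆ i, 𝒰 i = ⊤) :
    Mono (CechOX.cechShAug 𝒰 F) ∧
    CechOX.cechShAug 𝒰 F ≫ ((CechOX.cechSh 𝒰).obj F).d 0 1 = 0 ∧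
    (∀ (G : X.Modules) (g : G ⟶ ((CechOX.cechSh 𝒰).obj F).X 0), g ≫ ((CechOX.cechSh 𝒰).obj F).d 0 1 = 0 →
      ∃! g' : G ⟶ F, g' ≫ CechOX.cechShAug 𝒰 F = g) ∧
    ∀ p : ℕ, IsZero (((CechOX.cechSh 𝒰).obj F).homology (p + 1)) := by
  have := mono_aug 𝒰 F h𝒰
  refine ⟨this, aug_d 𝒰 F, fun G g hg => ?_, fun p => (exactAt 𝒰 F h𝒰 p).isZero_homology⟩
  have he := exact_aug 𝒰 F h𝒰
  exact ⟨he.lift g hg, he.lift_f g hg, fun g' h => (cancel_mono (CechOX.cechShAug 𝒰 F)).1 (h.trans (he.lift_f g hg).symm)⟩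

end Groth.Agent.Cx47
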