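import Groth.Agent.FMK72.BaseChange

/-!
Affine base change of sections over an affine open of the source lying over one of the base.
-/

set_option autoImplicit false
set_option backward.isDefEq.respectTransparency.types false
set_option maxSynthPendingDepth 6

noncomputable section

universe u

open CategoryTheory Limits AlgebraicGeometry TopologicalSpace Opposite
open Groth.Agent.QC70
open scoped TensorProduct

namespace Groth.Agent.Cx47

variable {X' X S' S : Scheme.{u}} {g' : X' ⟶ X} {f' : X' ⟶ S'} {f : X ⟶ S} {g : S' ⟶ S}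

/-- A semilinear map sending generators to generators is bijective. -/
theorem bijective_bc (H : IsPullback g' f' f g) (M : X.Modules) [M.IsQuasicoherent] (G : S.Modules)
    [G.IsQuasicoherent] {U : S.Opens} (hU : IsAffineOpen U) {U' : S'.Opens} (hU' : IsAffineOpen U')
    (e : U' ≤ g ⁻¹ᵁ U) {A : X.Opens} (hA : IsAffineOpen A) (hAU : A ≤ f ⁻¹ᵁ U) {W : X'.Opens}
    (hW : W = g' ⁻¹ᵁ A ⊓ f' ⁻¹ᵁ U') (hWA : W ≤ g' ⁻¹ᵁ A) (hWU : W ≤ f' ⁻¹ᵁ U')
    (E : Γ(G, U) ≃+ Γ(M, A)) (hE : ∀ r s, E (r • s) = (f.appLE U A hAU).hom r • E s)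
    (φ : Γ((Scheme.Modules.pullback g).obj G, U') →+ Γ((Scheme.Modules.pullback g').obj M, W))
    (hsmul : ∀ b s, φ (b • s) = (f'.appLE U' W hWU).hom b • φ s)
    (hgen : ∀ m, φ (res _ e (Amp73.pullS g G U m)) = res _ hWA (Amp73.pullS g' M A (E m))) :
    Function.Bijective φ := by
  have hW' : IsAffineOpen W :=
    haveI : IsAffine _ := hU
    haveI : IsAffine _ := hU'
    haveI : IsAffine _ := hA
    .of_isIso (Scheme.Hom.isPullback_resLE H e hAU hW).isoPullback.hom
  algebraize [(f.appLE U A hAU).hom, (g.appLE U U' e).hom, (f'.appLE U' W hWU).hom, (g'.appLE A W hWA).hom]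
  let _ : Algebra Γ(S, U) Γ(X', W) := ((g.appLE U U' e) ≫ f'.appLE U' W hWU).hom.toAlgebra
  have : IsScalarTower Γ(S, U) Γ(S', U') Γ(X', W) := IsScalarTower.of_algebraMap_eq' rfl
  have hcomm : g.appLE U U' e ≫ f'.appLE U' W hWU = f.appLE U A hAU ≫ g'.appLE A W hWA := by
    rw [Scheme.Hom.appLE_comp_appLE, Scheme.Hom.appLE_comp_appLE]
    simp only [H.w]
  have : IsScalarTower Γ(S, U) Γ(X, A) Γ(X', W) :=
    IsScalarTower.of_algebraMap_eq' (congrArg CommRingCat.Hom.hom hcomm)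
  have hpush : Algebra.IsPushout Γ(S, U) Γ(S', U') Γ(X, A) Γ(X', W) := by
    rw [← CommRingCat.isPushout_iff_isPushout]
    exact ((isIso_pushoutSection_iff H e hAU hW).1
      (isIso_pushoutSection_of_isAffineOpen H e hAU hW hU hU' hA)).flip
  obtain ⟨E1, hE1⟩ := LimTop61.exists_baseChange_equiv g G hU hU' e
  obtain ⟨E2, hE2⟩ := LimTop61.exists_baseChange_equiv g' M hA hW' hWA
  letI : Module Γ(S, U) Γ(M, A) := Module.compHom _ (f.appLE U A hAU).hom
  let El : Γ(G, U) ≃ₗ[Γ(S, U)] Γ(M, A) := { E with map_smul' := hE }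
  let E1' : Γ((Scheme.Modules.pullback g).obj G, U') ≃ₗ[Γ(S', U')] Γ(S', U') ⊗[Γ(S, U)] Γ(M, A) :=
    E1.trans (LinearEquiv.baseChange Γ(S, U) Γ(S', U') _ _ El)
  refine FMK72.bijective_of_pushout (M := Γ(M, A)) (fun _ _ => rfl) E1' E2 φ hsmul fun m => ?_
  have h1 : E1' (res _ e (Amp73.pullS g G U (El.symm m))) = 1 ⊗ₜ m := by
    refine (congrArg (LinearEquiv.baseChange Γ(S, U) Γ(S', U') _ _ El) (hE1 (El.symm m))).trans ?_
    simp [LinearEquiv.baseChange, TensorProduct.AlgebraTensorModule.congr]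
  refine (congrArg φ ((LinearEquiv.symm_apply_eq E1').2 h1.symm)).trans ((hgen _).trans ?_)
  refine Eq.trans ?_ ((LinearEquiv.symm_apply_eq E2).2 (hE2 m).symm).symm
  exact congrArg (fun a => res _ hWA (Amp73.pullS g' M A a)) (El.apply_symm_apply m)

end Groth.Agent.Cx47
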