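import Groth.Agent.CohDer42.TotalQis
import Groth.Agent.CohDer42.AcCrit
import Mathlib.Algebra.Homology.TotalComplexSymmetry
import Mathlib.Algebra.Homology.Additive
import Mathlib.Algebra.Homology.DerivedCategory.Basic
import Mathlib.CategoryTheory.Limits.Shapes.Countable

/-!
Comparison of a complex-valued functor with a functor along a resolution, through a double complex.
-/

universe v v' u u'

open CategoryTheory Category Limits

set_option autoImplicit false
set_option backward.isDefEq.respectTransparency false

namespace Groth.Agent.Cx47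

local notation "up" => ComplexShape.up ℤ
local notation "eN" => ComplexShape.embeddingUpNat

section Basic

variable {B : Type u'} [Category.{v'} B] [Abelian B]

/-- A morphism of double complexes which is a quasi-isomorphism in each inner degree is one. -/
theorem quasiIso_of_eval {K L : HomologicalComplex₂ B up up} (φ : K ⟶ L)
    (h : ∀ k, QuasiIso (((HomologicalComplex.eval B up k).mapHomologicalComplex up).map φ)) :
    QuasiIso φ := by
  rw [quasiIso_iff]
  intro p
  rw [quasiIsoAt_iff_isIso_homologyMap]
  have key : ∀ k, IsIso ((HomologicalComplex.homologyMap φ p).f k) := fun k => by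
    let e := HomologicalComplex.eval B up k
    have hq : IsIso (HomologicalComplex.homologyMap ((e.mapHomologicalComplex up).map φ) p) := inferInstance
    have := ShortComplex.mapHomologyIso_hom_naturality
      ((HomologicalComplex.shortComplexFunctor (CochainComplex B ℤ) up p).map φ) e
    have h2 : e.map (HomologicalComplex.homologyMap φ p) =
        (ShortComplex.mapHomologyIso (K.sc p) e).inv ≫
          HomologicalComplex.homologyMap ((e.mapHomologicalComplex up).map φ) p ≫
            (ShortComplex.mapHomologyIso (L.sc p) e).hom := by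
      rw [Iso.eq_inv_comp]
      exact this.symm
    change IsIso (e.map (HomologicalComplex.homologyMap φ p))
    rw [h2]
    infer_instance
  exact HomologicalComplex.Hom.isIso_of_components _

/-- A map from a single object to a complex in nonnegative degrees given by an exact coaugmented
sequence is a quasi-isomorphism. -/
theorem quasiIso_extend_single {Y : B} {K : CochainComplex B ℕ} (φ : (CochainComplex.single₀ B).obj Y ⟶ K)
    (h0 : (ShortComplex.mk (φ.f 0) (K.d 0 1) ((φ.comm 0 1).trans (by simp))).Exact)
    (hm : Mono (φ.f 0)) (hpos : ∀ n, K.ExactAt (n + 1)) : QuasiIso φ := by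
  rw [quasiIso_iff]
  rintro (_ | n)
  · rw [quasiIsoAt_iff' _ 0 0 1 (by simp) (by simp),
      ShortComplex.quasiIso_iff_of_zeros _ (by simp) (by simp) (by simp)]
    exact ⟨h0, hm⟩
  · rw [quasiIsoAt_iff_exactAt]
    · exact hpos n
    · exact HomologicalComplex.exactAt_single_obj _ _ _ _ (by simp)

variable [HasCountableCoproducts B]

/-- The inclusion of a complex as the column in degree zero of a total complex. -/
noncomputable def singleTotalInv (Z : CochainComplex B ℤ) :
    Z ⟶ HomologicalComplex₂.total ((HomologicalComplex.single (CochainComplex B ℤ) up 0).obj Z) up where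
  f n := (HomologicalComplex.singleObjXSelf up 0 Z).inv.f n ≫
    HomologicalComplex₂.ιTotal _ up 0 n n (zero_add n)
  comm' n m hnm := by
    let S : HomologicalComplex₂ B up up := (HomologicalComplex.single (CochainComplex B ℤ) up 0).obj Z
    rw [assoc, HomologicalComplex₂.total_d, Preadditive.comp_add, HomologicalComplex₂.ι_D₁,
      HomologicalComplex₂.ι_D₂]
    rw [HomologicalComplex₂.d₁_eq' S up (show (up).Rel 0 1 from rfl),
      HomologicalComplex₂.d₂_eq S up 0 hnm m (zero_add m)]
    have h0 : S.d 0 1 = 0 := by simp [S]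
    rw [h0]
    simp only [HomologicalComplex.zero_f, zero_comp, smul_zero, zero_add]
    rw [show ComplexShape.ε₂ up up up ((0 : ℤ), n) = 1 from rfl, one_smul,
      HomologicalComplex.Hom.comm_assoc]

/-- The total complex of a double complex concentrated in outer degree zero. -/
theorem isIso_singleTotalInv (Z : CochainComplex B ℤ) : IsIso (singleTotalInv Z) := by
  let S : HomologicalComplex₂ B up up := (HomologicalComplex.single (CochainComplex B ℤ) up 0).obj Z
  have key : ∀ n, IsIso ((singleTotalInv Z).f n) := fun n => by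
    refine ⟨CohDer42.TotalQis.pr S 0 n n ≫ (HomologicalComplex.singleObjXSelf up 0 Z).hom.f n, ?_, ?_⟩
    · change ((HomologicalComplex.singleObjXSelf up 0 Z).inv.f n ≫ S.ιTotal up 0 n n (zero_add n)) ≫ _ = _
      rw [assoc, reassoc_of% (CohDer42.TotalQis.ι_pr_self S 0 n n (zero_add n)),
        ← HomologicalComplex.comp_f, Iso.inv_hom_id]
      rfl
    · apply HomologicalComplex₂.total.hom_ext
      intro p q h
      change p + q = n at h
      by_cases hp : p = 0
      · subst hp
        obtain rfl : q = n := by omega
        change S.ιTotal up 0 q q h ≫ (CohDer42.TotalQis.pr S 0 q q ≫ _) ≫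
          (HomologicalComplex.singleObjXSelf up 0 Z).inv.f q ≫ S.ιTotal up 0 q q _ = _
        rw [assoc, reassoc_of% (CohDer42.TotalQis.ι_pr_self S 0 q q h),
          ← HomologicalComplex.comp_f_assoc, Iso.hom_inv_id, HomologicalComplex.id_f, id_comp, comp_id]
      · exact ((HomologicalComplex.eval B up q).map_isZero
          (HomologicalComplex.isZero_single_obj_X up 0 Z p hp)).eq_of_src _ _
  exact HomologicalComplex.Hom.isIso_of_components _

end Basic

variable {A : Type u} [Category.{v} A] [Abelian A] {B : Type u'} [Category.{v'} B] [Abelian B]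
  [HasCountableCoproducts B] [HasDerivedCategory B]
  (G₀ : A ⥤ CochainComplex B ℕ) [G₀.Additive] (P : A ⥤ B) [P.Additive]
  (η : P ⟶ G₀ ⋙ HomologicalComplex.eval B (ComplexShape.up ℕ) 0)

/-- A complex valued functor resolving `P` on the terms of a resolution `I` of `F`, and whose terms are
exact on that resolution, computes `P` of the resolution. -/
theorem nonempty_Q_iso (hη : ∀ M, η.app M ≫ (G₀.obj M).d 0 1 = 0)
    {F : A} (I : CochainComplex A ℤ) (hI : ∀ q < 0, IsZero (I.X q))
    (ε : (HomologicalComplex.single A up 0).obj F ⟶ I)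
    (h1 : ∀ n : ℕ,
      QuasiIso (((G₀ ⋙ HomologicalComplex.eval B (ComplexShape.up ℕ) n).mapHomologicalComplex up).map ε))
    (h2m : ∀ q, Mono (η.app (I.X q)))
    (h2e : ∀ q, (ShortComplex.mk _ _ (hη (I.X q))).Exact)
    (h2p : ∀ q n, (G₀.obj (I.X q)).ExactAt (n + 1)) :
    Nonempty (DerivedCategory.Q.obj ((G₀.obj F).extend eN) ≅
      DerivedCategory.Q.obj ((P.mapHomologicalComplex up).obj I)) := by
  let G : A ⥤ CochainComplex B ℤ := G₀ ⋙ (eN).extendFunctor B
  let D : HomologicalComplex₂ B up up := (G.mapHomologicalComplex up).obj I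
  have hneg : ∀ (M : A) (k : ℤ), k < 0 → IsZero ((G.obj M).X k) := fun M k hk =>
    HomologicalComplex.isZero_extend_X _ _ _ fun i hi => by simp at hi; omega
  have hD : ∀ p q : ℤ, p < 0 ∨ q < 0 → IsZero ((D.X p).X q) := by
    rintro p q (hp | hq)
    · exact (HomologicalComplex.eval B up q).map_isZero (G.map_isZero (hI p hp))
    · exact hneg _ _ hq
  have hDf : ∀ p q : ℤ, p < 0 ∨ q < 0 → IsZero ((D.flip.X p).X q) := fun p q h => hD q p h.symm
  -- left side
  let C₁ : HomologicalComplex₂ B up up :=
    (G.mapHomologicalComplex up).obj ((HomologicalComplex.single A up 0).obj F)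
  let φ₁ : C₁ ⟶ D := (G.mapHomologicalComplex up).map ε
  have hC₁ : ∀ p q : ℤ, p < 0 ∨ q < 0 → IsZero ((C₁.X p).X q) := by
    rintro p q (hp | hq)
    · exact (HomologicalComplex.eval B up q).map_isZero
        (G.map_isZero (HomologicalComplex.isZero_single_obj_X up 0 F p hp.ne))
    · exact hneg _ _ hq
  have hφ₁ : QuasiIso φ₁ := quasiIso_of_eval φ₁ fun k => by
    by_cases hk : 0 ≤ k
    · obtain ⟨n, rfl⟩ := Int.eq_ofNat_of_zero_le hk
      let e : G ⋙ HomologicalComplex.eval B up (n : ℤ) ≅ G₀ ⋙ HomologicalComplex.eval B (ComplexShape.up ℕ) n :=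
        NatIso.ofComponents (fun M => HomologicalComplex.extendXIso _ eN rfl) fun {M N} f => by
          simp [G, HomologicalComplex.extendMap_f _ eN (i := n) (i' := (n : ℤ)) rfl]
      have h := h1 n
      let e' := NatIso.mapHomologicalComplex e up
      have he : ((HomologicalComplex.eval B up (n : ℤ)).mapHomologicalComplex up).map φ₁ =
          e'.hom.app _ ≫ ((G₀ ⋙ HomologicalComplex.eval B (ComplexShape.up ℕ) n).mapHomologicalComplex up).map ε ≫
            e'.inv.app I :=
        (by simp : ((G ⋙ HomologicalComplex.eval B up (n : ℤ)).mapHomologicalComplex up).map ε = _)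
      rw [he]
      infer_instance
    · have hz : ∀ (K : HomologicalComplex₂ B up up), (∀ p, IsZero ((K.X p).X k)) → ∀ p,
          (((HomologicalComplex.eval B up k).mapHomologicalComplex up).obj K).ExactAt p := fun K hK p =>
        HomologicalComplex.exactAt_iff _ _ |>.2 (ShortComplex.exact_of_isZero_X₂ _ (hK p))
      rw [quasiIso_iff]
      intro p
      rw [quasiIsoAt_iff_exactAt _ _ (hz C₁ (fun p => hneg _ _ (not_le.1 hk)) p)]
      exact hz D (fun p => hneg _ _ (not_le.1 hk)) p
  have q₁ := CohDer42.TotalQis.quasiIso_total_map C₁ D φ₁ 0 0 hC₁ hD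
  let e₁ : C₁ ≅ (HomologicalComplex.single (CochainComplex B ℤ) up 0).obj (G.obj F) :=
    (HomologicalComplex.singleMapHomologicalComplex G up 0).app F
  -- right side
  let Z := (P.mapHomologicalComplex up).obj I
  let C₂ : HomologicalComplex₂ B up up := (HomologicalComplex.single (CochainComplex B ℤ) up 0).obj Z
  let f₂ : Z ⟶ D.flip.X 0 :=
    { f := fun q => η.app (I.X q) ≫ (HomologicalComplex.extendXIso (G₀.obj (I.X q)) eN (i := 0) rfl).inv
      comm' := fun i j _ => by
        change (η.app (I.X i) ≫ _) ≫ (HomologicalComplex.extendMap (G₀.map (I.d i j)) eN).f 0 = P.map (I.d i j) ≫ _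
        rw [HomologicalComplex.extendMap_f _ eN (i := 0) (i' := (0 : ℤ)) rfl, η.naturality_assoc]
        simp }
  have hf₂ : ∀ k, (up).Rel 0 k → f₂ ≫ D.flip.d 0 k = 0 := by
    rintro k rfl
    ext q
    change (η.app (I.X q) ≫ _) ≫ ((G₀.obj (I.X q)).extend eN).d 0 (0 + 1) = 0
    rw [HomologicalComplex.extend_d_eq _ eN (i := 0) (i' := (0 : ℤ)) (j := 1) (j' := 0 + 1) rfl rfl]
    simp [reassoc_of% (hη (I.X q))]
  let φ₂ : C₂ ⟶ D.flip := HomologicalComplex.mkHomFromSingle f₂ hf₂
  have hφ₂ : QuasiIso φ₂ := quasiIso_of_eval φ₂ fun q => by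
    let K := G₀.obj (I.X q)
    let σ : (CochainComplex.single₀ B).obj (P.obj (I.X q)) ⟶ K :=
      (CochainComplex.fromSingle₀Equiv K (P.obj (I.X q))).symm ⟨η.app (I.X q), hη _⟩
    have hσ0 : σ.f 0 = η.app (I.X q) := by simp [σ]
    have hσ : QuasiIso σ := quasiIso_extend_single σ
      (ShortComplex.exact_of_iso (S₁ := ShortComplex.mk _ _ (hη (I.X q))) (ShortComplex.isoMk (Iso.refl _) (Iso.refl _) (Iso.refl _)
        (by simp [hσ0]) (by simp [K])) (h2e q))
      (by rw [hσ0]; exact h2m q) (h2p q)
    have : QuasiIso (HomologicalComplex.extendMap σ eN) := inferInstance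
    let a : (((HomologicalComplex.eval B up q).mapHomologicalComplex up).obj C₂) ≅
        ((CochainComplex.single₀ B).obj (P.obj (I.X q))).extend eN :=
      (HomologicalComplex.singleMapHomologicalComplex (HomologicalComplex.eval B up q) up 0).app Z ≪≫
        (HomologicalComplex.extendSingleIso eN (P.obj (I.X q)) 0 0 rfl).symm
    have ha : ((HomologicalComplex.eval B up q).mapHomologicalComplex up).map φ₂ =
        a.hom ≫ HomologicalComplex.extendMap σ eN := by
      ext i
      by_cases hi : i = 0
      · subst hi
        change (φ₂.f 0).f q = _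
        rw [HomologicalComplex.comp_f, HomologicalComplex.extendMap_f σ eN (i := 0) (i' := (0 : ℤ)) rfl, hσ0]
        simp [a, φ₂, f₂, HomologicalComplex.extendSingleIso, HomologicalComplex.singleMapHomologicalComplex,
          HomologicalComplex.singleObjXSelf, HomologicalComplex.singleObjXIsoOfEq]
        exact (id_comp _).symm
      · exact ((HomologicalComplex.eval B up q).map_isZero
          (HomologicalComplex.isZero_single_obj_X up 0 Z i hi)).eq_of_src _ _
    rw [ha]
    exact quasiIso_comp _ _
  have hC₂ : ∀ p q : ℤ, p < 0 ∨ q < 0 → IsZero ((C₂.X p).X q) := by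
    intro p q h
    by_cases hp : p = 0
    · subst hp
      exact (P.map_isZero (hI q (by omega))).of_iso
        ((HomologicalComplex.eval B up q).mapIso (HomologicalComplex.singleObjXSelf up 0 Z))
    · exact (HomologicalComplex.eval B up q).map_isZero (HomologicalComplex.isZero_single_obj_X up 0 Z p hp)
  have q₂ := CohDer42.TotalQis.quasiIso_total_map C₂ D.flip φ₂ 0 0 hC₂ hDf
  have := isIso_singleTotalInv (G.obj F)
  have := isIso_singleTotalInv Z
  exact ⟨DerivedCategory.Q.mapIso (asIso (singleTotalInv (G.obj F)) ≪≫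
      (HomologicalComplex₂.total.mapIso e₁.symm up)) ≪≫
    asIso (DerivedCategory.Q.map (HomologicalComplex₂.total.map φ₁ up)) ≪≫
    DerivedCategory.Q.mapIso (D.totalFlipIso up).symm ≪≫
    (asIso (DerivedCategory.Q.map (HomologicalComplex₂.total.map φ₂ up))).symm ≪≫
    DerivedCategory.Q.mapIso (asIso (singleTotalInv Z)).symm⟩

end Groth.Agent.Cx47
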