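import Groth.Agent.Cx47.CechRes
import Groth.Agent.DCK91.PullMono
import Mathlib.CategoryTheory.Preadditive.Injective.Basic

/-!
The complex of sheaves of a simplicial system of opens, and its exactness on injective modules.
-/

universe u

open CategoryTheory CategoryTheory.Limits AlgebraicGeometry TopologicalSpace Opposite Simplicial

set_option autoImplicit false
set_option backward.isDefEq.respectTransparency.types false

noncomputable section

namespace Groth.Agent.Cx47

variable {X : Scheme.{u}}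

/-- A simplicial system of opens. -/
abbrev Sys (X : Scheme.{u}) := SimplicialObject (FormalCoproduct.{u} X.Opens)

/-- The indices in degree `n`. -/
abbrev Idx (T : Sys X) (n : ℕ) : Type u := (T.obj (op ⦋n⦌)).I

/-- The open of an index. -/
abbrev opn (T : Sys X) {n : ℕ} (t : Idx T n) : X.Opens := (T.obj (op ⦋n⦌)).obj t

/-- The faces. -/
abbrev face (T : Sys X) {n : ℕ} (j : Fin (n + 2)) (t : Idx T (n + 1)) : Idx T n := (T.δ j).f t

lemma opn_le_face (T : Sys X) {n : ℕ} (j : Fin (n + 2)) (t : Idx T (n + 1)) :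
    opn T t ≤ opn T (face T j t) := leOfHom ((T.δ j).φ t)

/-- `W` cut by `V`. -/
abbrev icut (V W : X.Opens) : X.Opens := V.ι ''ᵁ (V.ι ⁻¹ᵁ W)

lemma icut_eq (V W : X.Opens) : icut V W = V ⊓ W := by
  rw [icut, Scheme.Hom.image_preimage_eq_opensRange_inf, Scheme.Opens.opensRange_ι]

lemma icut_mono {V V' W W' : X.Opens} (h : V' ≤ V) (h' : W' ≤ W) : icut V' W' ≤ icut V W := by
  rw [icut_eq, icut_eq]; exact inf_le_inf h h'

variable (T : Sys X)

/-- The complex of sheaves of a system of opens. -/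
def cxSh : X.Modules ⥤ CochainComplex X.Modules ℕ :=
  CechOX.pushRestrFam.flip ⋙ FormalCoproduct.cochainComplexFunctor T

variable (F : X.Modules)

/-- The projection to the summand of an index. -/
abbrev sπ {n : ℕ} (t : Idx T n) : ((cxSh T).obj F).X n ⟶ (CechOX.pushRestr (opn T t)).obj F :=
  Pi.π (fun t : Idx T n => (CechOX.pushRestr (opn T t)).obj F) t

lemma map_sπ {G : X.Modules} (φ : F ⟶ G) {n : ℕ} (t : Idx T n) :
    ((cxSh T).map φ).f n ≫ sπ T G t = sπ T F t ≫ (CechOX.pushRestr (opn T t)).map φ :=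
  limMap_π _ _

instance : (cxSh T).Additive where
  map_add {M N f g} := by
    ext n : 1
    refine Pi.hom_ext _ _ fun t => ?_
    rw [HomologicalComplex.add_f_apply]
    refine (map_sπ T M (f + g) t).trans ?_
    rw [Functor.map_add, Preadditive.comp_add]
    exact ((Preadditive.add_comp _ _ _ _ _ _).trans
      (congrArg₂ (· + ·) (map_sπ T M f t) (map_sπ T M g t))).symm

/-- The components of a section. -/
def cmp {n : ℕ} (W : X.Opens) (s : Γ(((cxSh T).obj F).X n, W)) (t : Idx T n) :
    Γ(F, icut (opn T t) W) :=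
  (sπ T F t).app W s

lemma cmp_bijective (n : ℕ) (W : X.Opens) : Function.Bijective (cmp T F (n := n) W) := by
  let G : X.Modules ⥤ AddCommGrpCat.{u} :=
    Scheme.Modules.toPresheaf X ⋙ (evaluation _ AddCommGrpCat.{u}).obj (op W)
  let f := fun t : Idx T n => (CechOX.pushRestr (opn T t)).obj F
  have : HasLimitsOfShape (Discrete (Idx T n)) AddCommGrpCat.{u} := inferInstance
  have := evaluation_preservesLimitsOfShape (C := AddCommGrpCat.{u}) (J := Discrete (Idx T n)) (op W)
  have hG : PreservesLimitsOfShape (Discrete (Idx T n)) G := comp_preservesLimitsOfShape _ _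
  have e : (cmp T F (n := n) W : G.obj (∏ᶜ f) → _) =
      (Concrete.productEquiv fun t => G.obj (f t)) ∘ (PreservesProduct.iso G f).hom := by
    funext s t
    rw [Function.comp_apply, Concrete.productEquiv_apply_apply, ← ConcreteCategory.comp_apply,
      PreservesProduct.iso_hom, piComparison_comp_π]
    rfl
  rw [e]
  exact (Concrete.productEquiv fun t => G.obj (f t)).bijective.comp
    ((ConcreteCategory.bijective_of_isIso (PreservesProduct.iso G f).hom))

lemma cmp_zero {n : ℕ} (W : X.Opens) (t : Idx T n) : cmp T F W (0 : Γ(((cxSh T).obj F).X n, W)) t = 0 :=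
  map_zero _

lemma d_sπ (n : ℕ) (t : Idx T (n + 1)) :
    ((cxSh T).obj F).d n (n + 1) ≫ sπ T F t =
      ∑ j : Fin (n + 2), (-1 : ℤ) ^ (j : ℕ) •
        (sπ T F (face T j t) ≫ CechOX.pushRestrMapApp (opn_le_face T j t) F) := by
  let P := CechOX.pushRestrFam.flip.obj F
  let C : CosimplicialObject X.Modules := (FormalCoproduct.cosimplicialObjectFunctor T).obj P
  have hd : ((cxSh T).obj F).d n (n + 1) =
      AlgebraicTopology.AlternatingCofaceMapComplex.objD C n :=
    CochainComplex.of_d (fun k => C.obj ⦋k⦌) (AlgebraicTopology.AlternatingCofaceMapComplex.objD C) n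
  have key : ∀ j : Fin (n + 2), C.δ j ≫ sπ T F t =
      sπ T F (face T j t) ≫ CechOX.pushRestrMapApp (opn_le_face T j t) F := fun j => Pi.lift_π _ _
  rw [hd]
  refine (Preadditive.sum_comp _ _ _).trans (Finset.sum_congr rfl fun j _ => ?_)
  refine (Preadditive.zsmul_comp _ _ _).trans ?_
  rw [← key j]
  rfl

lemma cmp_d (n : ℕ) (W : X.Opens) (s : Γ(((cxSh T).obj F).X n, W)) (t : Idx T (n + 1)) :
    cmp T F W ((((cxSh T).obj F).d n (n + 1)).app W s) t =
      ∑ j : Fin (n + 2), (-1 : ℤ) ^ (j : ℕ) •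
        res F (icut_mono (opn_le_face T j t) le_rfl) (cmp T F W s (face T j t)) := by
  refine (congr($(d_sπ T F n t).app W s)).trans ((sum_app _ W s).trans (Finset.sum_congr rfl fun j _ => ?_))
  generalize ((-1 : ℤ) ^ (j : ℕ)) = z
  exact map_zsmul (AddMonoidHom.mk' (fun φ : _ ⟶ (CechOX.pushRestr (opn T t)).obj F => φ.app W s)
    fun _ _ => rfl) z _

lemma cmp_d0 (W : X.Opens) (s : Γ(((cxSh T).obj F).X 0, W)) (t : Idx T 1) :
    cmp T F W ((((cxSh T).obj F).d 0 1).app W s) t =
      res F (icut_mono (opn_le_face T 0 t) le_rfl) (cmp T F W s (face T 0 t)) -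
        res F (icut_mono (opn_le_face T 1 t) le_rfl) (cmp T F W s (face T 1 t)) := by
  refine (cmp_d T F 0 W s t).trans ((Fin.sum_univ_two (f := fun j : Fin 2 => (-1 : ℤ) ^ (j : ℕ) •
    res F (icut_mono (opn_le_face T j t) le_rfl) (cmp T F W s (face T j t)))).trans ?_)
  simp only [Fin.val_zero, pow_zero, one_smul, Fin.val_one, pow_one, neg_smul]
  exact (sub_eq_add_neg _ _).symm

lemma cmp_map {G : X.Modules} (φ : F ⟶ G) {n : ℕ} (W : X.Opens) (s : Γ(((cxSh T).obj F).X n, W))
    (t : Idx T n) :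
    cmp T G W ((((cxSh T).map φ).f n).app W s) t = φ.app _ (cmp T F W s t) := by
  exact congr($(map_sπ T F φ t).app W s)

/-- The coaugmentation. -/
def cxAug : 𝟭 X.Modules ⟶ cxSh T ⋙ HomologicalComplex.eval X.Modules (ComplexShape.up ℕ) 0 where
  app M := Pi.lift fun t : Idx T 0 => (Scheme.Modules.restrictAdjunction (opn T t).ι).unit.app M
  naturality M N φ := by
    refine Pi.hom_ext _ _ fun t => ?_
    refine (Category.assoc _ _ _).trans ((congrArg _ (Pi.lift_π _ t)).trans ?_)
    refine Eq.trans ?_ ((Category.assoc _ _ _).trans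
      (congrArg (_ ≫ ·) (map_sπ T M φ t))).symm
    refine Eq.trans ?_ ((Category.assoc _ _ _).symm.trans (congrArg (· ≫ _) (Pi.lift_π _ t))).symm
    exact (Scheme.Modules.restrictAdjunction (opn T t).ι).unit.naturality φ

lemma cmp_cxAug (W : X.Opens) (x : Γ(F, W)) (t : Idx T 0) :
    cmp T F W (((cxAug T).app F).app W x) t = res F ((opn T t).ι.image_preimage_le W) x :=
  congr($(Pi.lift_π (f := fun t : Idx T 0 => (CechOX.pushRestr (opn T t)).obj F)
    (fun t => (Scheme.Modules.restrictAdjunction (opn T t).ι).unit.app F) t).app W x)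

lemma cxAug_d : (cxAug T).app F ≫ ((cxSh T).obj F).d 0 1 = 0 := by
  ext W x
  apply (cmp_bijective T F 1 W).1
  funext t
  refine (cmp_d0 T F W (((cxAug T).app F).app W x) t).trans ?_
  rw [cmp_cxAug, cmp_cxAug, res_res, res_res, sub_self]
  exact (cmp_zero T F W t).symm

/-- A contraction of the indices whose opens contain a point. -/
structure Cone (x : X) where
  k : Idx T 0
  mem_k : x ∈ opn T k
  h : ∀ n, Idx T n → Idx T (n + 1)
  mem : ∀ n (t : Idx T n), x ∈ opn T t → x ∈ opn T (h n t)
  face_zero : ∀ n (t : Idx T n), x ∈ opn T t → face T 0 (h n t) = t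
  face_succ : ∀ n (j : Fin (n + 2)) (t : Idx T (n + 1)), x ∈ opn T t →
    face T j.succ (h (n + 1) t) = h n (face T j t)
  face_one : ∀ (t : Idx T 0), x ∈ opn T t → face T 1 (h 0 t) = k

/-- The complex of sheaves is a resolution on the level of sections. -/
def Resolves : Prop :=
  (∀ W, Function.Injective (((cxAug T).app F).app W)) ∧
  (∀ W (s : Γ(((cxSh T).obj F).X 0, W)), (((cxSh T).obj F).d 0 1).app W s = 0 →
    ∃ m, ((cxAug T).app F).app W m = s) ∧
  ∀ n W (s : Γ(((cxSh T).obj F).X (n + 1), W)), (((cxSh T).obj F).d (n + 1) (n + 2)).app W s = 0 →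
    ∃ r, (((cxSh T).obj F).d n (n + 1)).app W r = s

variable {T F}

/-- Retracts. -/
theorem Resolves.of_retract {G : X.Modules} (hG : Resolves T G) (i : F ⟶ G) (p : G ⟶ F)
    (hip : i ≫ p = 𝟙 F) : Resolves T F := by
  have hsec : ∀ n W (s : Γ(((cxSh T).obj F).X n, W)),
      (((cxSh T).map p).f n).app W ((((cxSh T).map i).f n).app W s) = s := fun n W s => by
    have h : ((cxSh T).map i).f n ≫ ((cxSh T).map p).f n = 𝟙 _ := by
      rw [← HomologicalComplex.comp_f, ← Functor.map_comp, hip, CategoryTheory.Functor.map_id]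
      rfl
    exact congr($(h).app W s)
  have hd : ∀ {A B : X.Modules} (φ : A ⟶ B) (a b : ℕ) W (s : Γ(((cxSh T).obj A).X a, W)),
      (((cxSh T).obj B).d a b).app W ((((cxSh T).map φ).f a).app W s) =
        (((cxSh T).map φ).f b).app W ((((cxSh T).obj A).d a b).app W s) := fun φ a b W s =>
    congr($(((cxSh T).map φ).comm a b).app W s)
  have ha : ∀ {A B : X.Modules} (φ : A ⟶ B) W (m : Γ(A, W)),
      ((cxAug T).app B).app W (φ.app W m) = (((cxSh T).map φ).f 0).app W (((cxAug T).app A).app W m) :=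
    fun φ W m => congr($((cxAug T).naturality φ).app W m)
  refine ⟨fun W a b hab => ?_, fun W s hs => ?_, fun n W s hs => ?_⟩
  · have h := congrArg ((((cxSh T).map i).f 0).app W) hab
    rw [← ha, ← ha] at h
    have h' := congrArg (p.app W) (hG.1 W h)
    exact (congr($(hip).app W a)).symm.trans (h'.trans congr($(hip).app W b))
  · obtain ⟨m, hm⟩ := hG.2.1 W ((((cxSh T).map i).f 0).app W s) (by rw [hd, hs, map_zero])
    exact ⟨p.app W m, by rw [ha, hm, hsec]⟩
  · obtain ⟨r, hr⟩ := hG.2.2 n W ((((cxSh T).map i).f (n + 1)).app W s) (by rw [hd, hs, map_zero])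
    exact ⟨(((cxSh T).map p).f n).app W r, by rw [hd, hr, hsec]⟩

lemma pi_sec_bijective {κ : Type u} (H : κ → X.Modules) (W : X.Opens) :
    Function.Bijective fun (s : Γ(∏ᶜ H, W)) (x : κ) => (Pi.π H x).app W s := by
  let G : X.Modules ⥤ AddCommGrpCat.{u} :=
    Scheme.Modules.toPresheaf X ⋙ (evaluation _ AddCommGrpCat.{u}).obj (op W)
  have : HasLimitsOfShape (Discrete κ) AddCommGrpCat.{u} := inferInstance
  have := evaluation_preservesLimitsOfShape (C := AddCommGrpCat.{u}) (J := Discrete κ) (op W)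
  have hG : PreservesLimitsOfShape (Discrete κ) G := comp_preservesLimitsOfShape _ _
  have e : (fun (s : G.obj (∏ᶜ H)) (x : κ) => (Pi.π H x).app W s) =
      (Concrete.productEquiv fun x => G.obj (H x)) ∘ (PreservesProduct.iso G H).hom := by
    funext s x
    rw [Function.comp_apply, Concrete.productEquiv_apply_apply, ← ConcreteCategory.comp_apply,
      PreservesProduct.iso_hom, piComparison_comp_π]
    rfl
  suffices h : Function.Bijective (fun (s : G.obj (∏ᶜ H)) (x : κ) => (Pi.π H x).app W s) from h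
  rw [e]
  exact (Concrete.productEquiv fun x => G.obj (H x)).bijective.comp
    ((ConcreteCategory.bijective_of_isIso (PreservesProduct.iso G H).hom))

/-- Products. -/
theorem Resolves.pi {κ : Type u} {H : κ → X.Modules} (hH : ∀ x, Resolves T (H x)) :
    Resolves T (∏ᶜ H) := by
  have hext : ∀ {n : ℕ} {W : X.Opens} (a b : Γ(((cxSh T).obj (∏ᶜ H)).X n, W)),
      (∀ x, (((cxSh T).map (Pi.π H x)).f n).app W a = (((cxSh T).map (Pi.π H x)).f n).app W b) → a = b := by
    intro n W a b h
    refine (cmp_bijective T _ n W).1 (funext fun t => (pi_sec_bijective H _).1 (funext fun x => ?_))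
    have := congrArg (fun e => cmp T (H x) W e t) (h x)
    simp only [cmp_map] at this
    exact this
  have hglue : ∀ {n : ℕ} {W : X.Opens} (r : ∀ x, Γ(((cxSh T).obj (H x)).X n, W)),
      ∃ a, ∀ x, (((cxSh T).map (Pi.π H x)).f n).app W a = r x := by
    intro n W r
    choose v hv using fun t : Idx T n => (pi_sec_bijective H (icut (opn T t) W)).2 fun x => cmp T (H x) W (r x) t
    obtain ⟨a, ha⟩ := (cmp_bijective T (∏ᶜ H) n W).2 v
    refine ⟨a, fun x => (cmp_bijective T _ n W).1 (funext fun t => ?_)⟩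
    rw [cmp_map, congrFun ha t]
    exact congrFun (hv t) x
  have hd : ∀ x (a b : ℕ) W (s : Γ(((cxSh T).obj (∏ᶜ H)).X a, W)),
      (((cxSh T).obj (H x)).d a b).app W ((((cxSh T).map (Pi.π H x)).f a).app W s) =
        (((cxSh T).map (Pi.π H x)).f b).app W ((((cxSh T).obj (∏ᶜ H)).d a b).app W s) := fun x a b W s =>
    congr($(((cxSh T).map (Pi.π H x)).comm a b).app W s)
  have ha : ∀ x W (m : Γ(∏ᶜ H, W)),
      ((cxAug T).app (H x)).app W ((Pi.π H x).app W m) =
        (((cxSh T).map (Pi.π H x)).f 0).app W (((cxAug T).app (∏ᶜ H)).app W m) :=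
    fun x W m => congr($((cxAug T).naturality (Pi.π H x)).app W m)
  refine ⟨fun W a b hab => (pi_sec_bijective H W).1 (funext fun x => (hH x).1 W ?_), fun W s hs => ?_,
    fun n W s hs => ?_⟩
  · rw [ha, ha, hab]
  · choose m hm using fun x => (hH x).2.1 W ((((cxSh T).map (Pi.π H x)).f 0).app W s) (by rw [hd, hs, map_zero])
    obtain ⟨m', hm'⟩ := (pi_sec_bijective H W).2 m
    refine ⟨m', hext _ _ fun x => ?_⟩
    refine (ha x W m').symm.trans ((congrArg _ ?_).trans (hm x))
    exact congrFun hm' x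
  · choose r hr using fun x => (hH x).2.2 n W ((((cxSh T).map (Pi.π H x)).f (n + 1)).app W s) (by rw [hd, hs, map_zero])
    obtain ⟨r', hr'⟩ := hglue r
    refine ⟨r', hext _ _ fun x => ?_⟩
    rw [← hd, hr', hr]

/-- Skyscrapers. -/
theorem Resolves.of_isSky {H : X.Modules} {x : X} (hH : QC70.IsSky H x) (c : Cone T x) :
    Resolves T H := by
  classical
  have hsub : ∀ {W : X.Opens}, x ∉ W → ∀ a b : Γ(H, W), a = b := fun hx a b =>
    (hH.subsingleton _ hx).elim a b
  have hmem : ∀ {V W : X.Opens}, x ∈ icut V W ↔ x ∈ V ∧ x ∈ W := fun {V W} => by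
    rw [icut_eq]; rfl
  have hbij : ∀ {V W : X.Opens} (h : V ≤ W), x ∈ V → Function.Bijective (res H h) :=
    fun h hx => hH.bijective_res h hx
  have hle : ∀ {V : X.Opens} (W : X.Opens), icut V W ≤ W := fun {V} W => V.ι.image_preimage_le W
  have hval : ∀ {n : ℕ} (W : X.Opens) (s : Γ(((cxSh T).obj H).X n, W)),
      ∃ a : Idx T n → Γ(H, W), ∀ t, x ∈ W → x ∈ opn T t → res H (hle W) (a t) = cmp T H W s t := by
    intro n W s
    refine ⟨fun t => if h : x ∈ W ∧ x ∈ opn T t then
      ((hbij (hle W) (hmem.2 ⟨h.2, h.1⟩)).2 (cmp T H W s t)).choose else 0, fun t hW ht => ?_⟩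
    simp only [dif_pos (And.intro hW ht)]
    exact ((hbij (hle W) (hmem.2 ⟨ht, hW⟩)).2 (cmp T H W s t)).choose_spec
  refine ⟨fun W a b hab => ?_, fun W s hs => ?_, fun n W s hs => ?_⟩
  · by_cases hW : x ∈ W
    · refine (hbij (hle W) (hmem.2 ⟨c.mem_k, hW⟩)).1 ?_
      have := congrArg (fun e => cmp T H W e c.k) hab
      simp only [cmp_cxAug] at this
      exact this
    · exact hsub hW _ _
  · obtain ⟨a, ha⟩ := hval W s
    refine ⟨a c.k, (cmp_bijective T H 0 W).1 (funext fun t => ?_)⟩
    by_cases ht : x ∈ W ∧ x ∈ opn T t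
    · obtain ⟨hW, ht⟩ := ht
      rw [cmp_cxAug, ← ha t hW ht]
      have hm := c.mem 0 t ht
      have h := congrArg (fun e => cmp T H W e (c.h 0 t)) hs
      simp only [cmp_d0] at h
      rw [cmp_zero, sub_eq_zero, ← ha _ hW (opn_le_face T 0 _ hm), ← ha _ hW (opn_le_face T 1 _ hm),
        res_res, res_res] at h
      have h' := (hbij (hle W) (hmem.2 ⟨hm, hW⟩)).1 h
      rw [c.face_zero 0 t ht, c.face_one t ht] at h'
      exact congrArg (res H (hle W)) h'.symm
    · exact hsub (fun h => ht (hmem.1 h).symm) _ _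
  · obtain ⟨a, ha⟩ := hval W s
    obtain ⟨r, hr⟩ := (cmp_bijective T H n W).2 fun t => res H (hle W) (a (c.h n t))
    refine ⟨r, (cmp_bijective T H (n + 1) W).1 (funext fun u => ?_)⟩
    by_cases hu : x ∈ W ∧ x ∈ opn T u
    · obtain ⟨hW, hu⟩ := hu
      have hm := c.mem (n + 1) u hu
      have h := congrArg (fun e => cmp T H W e (c.h (n + 1) u)) hs
      simp only [cmp_d] at h
      rw [cmp_zero] at h
      have hterm : ∀ j : Fin (n + 3),
          res H (icut_mono (opn_le_face T j (c.h (n + 1) u)) le_rfl) (cmp T H W s (face T j (c.h (n + 1) u))) =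
            res H (hle W) (a (face T j (c.h (n + 1) u))) := fun j => by
        rw [← ha _ hW (opn_le_face T j _ hm), res_res]
      simp only [hterm] at h
      have h' : ∑ j : Fin (n + 3), (-1 : ℤ) ^ (j : ℕ) • a (face T j (c.h (n + 1) u)) = 0 := by
        refine (hbij (hle W) (hmem.2 ⟨hm, hW⟩)).1 (Eq.trans ?_ (h.trans (map_zero _).symm))
        exact (map_sum _ _ _).trans (Finset.sum_congr rfl fun j _ => map_zsmul _ _ _)
      rw [Fin.sum_univ_succ, c.face_zero (n + 1) u hu] at h'
      simp only [Fin.val_zero, pow_zero, one_smul, Fin.val_succ, pow_succ, mul_neg, mul_one, neg_smul,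
        Finset.sum_neg_distrib] at h'
      rw [cmp_d, ← ha u hW hu, eq_of_sub_eq_zero ((sub_eq_add_neg _ _).trans h')]
      refine Eq.trans ?_ (map_sum _ _ _).symm
      refine Finset.sum_congr rfl fun j _ => ?_
      rw [congrFun hr (face T j u), res_res, c.face_succ n j u hu]
      exact (map_zsmul _ _ _).symm
    · exact hsub (fun h => hu (hmem.1 h).symm) _ _

/-- Injective modules are resolved. -/
theorem resolves_of_injective (c : ∀ x, Nonempty (Cone T x)) (J : X.Modules) [Injective J] :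
    Resolves T J := by
  let H : X → X.Modules := fun x => DCK91.skyE x (J.presheaf.stalk x)
  choose φ hφ using fun x => (DCK91.isSky_skyE x (J.presheaf.stalk x)).exists_hom
    (DCK91.skyStalk x (J.presheaf.stalk x)).symm.toLinearMap (G := J)
  let i : J ⟶ ∏ᶜ H := Pi.lift φ
  have : Mono i := ⟨fun {Z} a b hab => Scheme.Modules.hom_ext _ _ fun W => by
    ext z
    refine TopCat.Presheaf.section_ext (F := ⟨J.presheaf, J.isSheaf⟩) W _ _ fun x hx => ?_
    apply (DCK91.skyStalk x (J.presheaf.stalk x)).symm.injective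
    refine Eq.trans (hφ x W hx (a.app W z)).symm (Eq.trans ?_ (hφ x W hx (b.app W z)))
    have h2 := congrArg (fun g => (g ≫ Pi.π H x).app W z) hab
    simp only [Category.assoc, i, Pi.lift_π] at h2
    exact congrArg _ h2⟩
  exact (Resolves.pi fun x => Resolves.of_isSky (DCK91.isSky_skyE x _) (c x).some).of_retract i
    (Injective.factorThru (𝟙 J) i) (Injective.comp_factorThru _ _)

end Groth.Agent.Cx47
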