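import Groth.Agent.Cx47.SysCech
import Groth.Agent.Cx47.BCLocal

/-!
Base change of the pushed forward complex of a system of opens.
-/

universe u

open CategoryTheory CategoryTheory.Limits AlgebraicGeometry TopologicalSpace Opposite Simplicial

set_option autoImplicit false
set_option backward.isDefEq.respectTransparency.types false
set_option backward.isDefEq.respectTransparency false

noncomputable section

namespace Groth.Agent.Cx47

variable {X' X S' S : Scheme.{u}} (g' : X' ⟶ X)

/-- Inverse image of families of opens. -/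
def preFun : FormalCoproduct.{u} X.Opens ⥤ FormalCoproduct.{u} X'.Opens where
  obj U := ⟨U.I, fun t => g' ⁻¹ᵁ U.obj t⟩
  map {U V} φ := ⟨φ.f, fun t => homOfLE (g'.preimage_mono (leOfHom (φ.φ t)))⟩

/-- The inverse image system. -/
abbrev preSys (T : Sys X) : Sys X' := T ⋙ preFun g'

lemma icut_pre_le (V W : X.Opens) :
    icut (g' ⁻¹ᵁ V) (g' ⁻¹ᵁ W) ≤ g' ⁻¹ᵁ (icut V W) := by
  rw [icut_eq, icut_eq]; rfl

/-- Restriction of sections, as a map from `j_* j^* g'_*` to `g'_* j'_* j'^*`. -/
def pushPush (V : X.Opens) (N : X'.Modules) :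
    (CechOX.pushRestr V).obj ((Scheme.Modules.pushforward g').obj N) ⟶
      (Scheme.Modules.pushforward g').obj ((CechOX.pushRestr (g' ⁻¹ᵁ V)).obj N) :=
  ⟨PresheafOfModules.homMk
    { app := fun W => N.presheaf.map (homOfLE (icut_pre_le g' V W.unop)).op
      naturality := fun W W' i => by
        change N.presheaf.map _ ≫ N.presheaf.map _ = N.presheaf.map _ ≫ N.presheaf.map _
        rw [← Functor.map_comp, ← Functor.map_comp]
        rfl }
    (fun W r m => by
      obtain ⟨W⟩ := W
      change ↑Γ(X, W) at r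
      change N.presheaf.map (homOfLE (icut_pre_le g' V W)).op
          ((g'.app (icut V W) ((V.ι.appIso (V.ι ⁻¹ᵁ W)).inv (V.ι.app W r))) •
            (show ↑Γ(N, g' ⁻¹ᵁ icut V W) from m)) =
        (((g' ⁻¹ᵁ V).ι.appIso ((g' ⁻¹ᵁ V).ι ⁻¹ᵁ (g' ⁻¹ᵁ W))).inv
            ((g' ⁻¹ᵁ V).ι.app (g' ⁻¹ᵁ W) (g'.app W r))) •
          N.presheaf.map (homOfLE (icut_pre_le g' V W)).op (show ↑Γ(N, g' ⁻¹ᵁ icut V W) from m)
      rw [Scheme.Modules.map_smul]
      congr 1
      have h1 := ConcreteCategory.congr_hom (V.ι.app_appIso_inv W) r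
      have h2 := ConcreteCategory.congr_hom ((g' ⁻¹ᵁ V).ι.app_appIso_inv (g' ⁻¹ᵁ W)) (g'.app W r)
      simp only [CategoryTheory.comp_apply] at h1 h2
      rw [h1, h2]
      refine (congrArg (X'.presheaf.map _)
        (ConcreteCategory.congr_hom (g'.naturality _) r)).trans ?_
      exact (ConcreteCategory.congr_hom (X'.presheaf.map_comp _ _) (g'.app W r)).symm)⟩

variable (M : X.Modules)

/-- The comparison map of one index. -/
def theta (V : X.Opens) : (CechOX.pushRestr V).obj M ⟶
    (Scheme.Modules.pushforward g').obj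
      ((CechOX.pushRestr (g' ⁻¹ᵁ V)).obj ((Scheme.Modules.pullback g').obj M)) :=
  (CechOX.pushRestr V).map ((Scheme.Modules.pullbackPushforwardAdjunction g').unit.app M) ≫
    pushPush g' V _

lemma theta_app (V W : X.Opens) (m : Γ(M, icut V W)) :
    (theta g' M V).app W m =
      QC70.res ((Scheme.Modules.pullback g').obj M) (icut_pre_le g' V W) (Amp73.pullS g' M (icut V W) m) :=
  rfl

variable {g'} {f' : X' ⟶ S'} {f : X ⟶ S} {g : S' ⟶ S} (w : g' ≫ f = f' ≫ g)

include w in
lemma preimage_eq (U : S.Opens) : f' ⁻¹ᵁ (g ⁻¹ᵁ U) = g' ⁻¹ᵁ (f ⁻¹ᵁ U) :=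
  congrArg (fun h : X' ⟶ S => h ⁻¹ᵁ U) w.symm

/-- The comparison map of one index on the base. -/
def psi (V : X.Opens) : (Scheme.Modules.pushforward f).obj ((CechOX.pushRestr V).obj M) ⟶
    (Scheme.Modules.pushforward g).obj ((Scheme.Modules.pushforward f').obj
      ((CechOX.pushRestr (g' ⁻¹ᵁ V)).obj ((Scheme.Modules.pullback g').obj M))) :=
  (Scheme.Modules.pushforward f).map (theta g' M V) ≫
    ((Scheme.Modules.pushforwardComp g' f).hom ≫ (Scheme.Modules.pushforwardCongr w).hom ≫
      (Scheme.Modules.pushforwardComp f' g).inv).app _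

include w in
lemma icut_pre_le' (V : X.Opens) (U : S.Opens) :
    icut (g' ⁻¹ᵁ V) (f' ⁻¹ᵁ (g ⁻¹ᵁ U)) ≤ g' ⁻¹ᵁ icut V (f ⁻¹ᵁ U) :=
  (icut_mono le_rfl (preimage_eq w U).le).trans (icut_pre_le g' V _)

lemma psi_app (V : X.Opens) (U : S.Opens) (m : Γ(M, icut V (f ⁻¹ᵁ U))) :
    (psi M w V).app U m =
      QC70.res ((Scheme.Modules.pullback g').obj M) (icut_pre_le' w V U)
        (Amp73.pullS g' M (icut V (f ⁻¹ᵁ U)) m) := by
  rw [← QC70.res_res (icut_pre_le g' V (f ⁻¹ᵁ U)) (icut_mono le_rfl (preimage_eq w U).le)]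
  rfl

/-- The base change map of one index. -/
def phi (V : X.Opens) :
    (Scheme.Modules.pullback g).obj ((Scheme.Modules.pushforward f).obj ((CechOX.pushRestr V).obj M)) ⟶
    (Scheme.Modules.pushforward f').obj
      ((CechOX.pushRestr (g' ⁻¹ᵁ V)).obj ((Scheme.Modules.pullback g').obj M)) :=
  ((Scheme.Modules.pullbackPushforwardAdjunction g).homEquiv _ _).symm (psi M w V)

lemma phi_app_pullS (V : X.Opens) (U : S.Opens) (m : Γ(M, icut V (f ⁻¹ᵁ U))) :
    (phi M w V).app (g ⁻¹ᵁ U) (Amp73.pullS g _ U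
      (show Γ((Scheme.Modules.pushforward f).obj ((CechOX.pushRestr V).obj M), U) from m)) =
      QC70.res ((Scheme.Modules.pullback g').obj M) (icut_pre_le' w V U)
        (Amp73.pullS g' M (icut V (f ⁻¹ᵁ U)) m) := by
  have h : (Scheme.Modules.pullbackPushforwardAdjunction g).homEquiv _ _ (phi M w V) = psi M w V :=
    Equiv.apply_symm_apply _ _
  rw [Adjunction.homEquiv_unit] at h
  exact (ConcreteCategory.congr_hom (congrArg (fun a => Scheme.Modules.Hom.app a U) h) m).trans
    (psi_app M w V U m)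

lemma phi_natural {V V₁ : X.Opens} (h : V₁ ≤ V) :
    (Scheme.Modules.pullback g).map
        ((Scheme.Modules.pushforward f).map (CechOX.pushRestrMapApp h M)) ≫ phi M w V₁ =
      phi M w V ≫ (Scheme.Modules.pushforward f').map
        (CechOX.pushRestrMapApp (g'.preimage_mono h) ((Scheme.Modules.pullback g').obj M)) := by
  refine ((Adjunction.homEquiv_naturality_left_symm _ _ _).symm.trans (Eq.trans (congrArg _ ?_)
    (Adjunction.homEquiv_naturality_right_symm _ _ _)))
  apply Scheme.Modules.hom_ext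
  intro U
  ext m
  refine (psi_app M w V₁ U _).trans ?_
  change _ = QC70.res ((Scheme.Modules.pullback g').obj M)
    (icut_mono (g'.preimage_mono h) (le_rfl : f' ⁻¹ᵁ (g ⁻¹ᵁ U) ≤ _)) ((psi M w V).app U m)
  rw [psi_app, QC70.res_res]
  change QC70.res _ _ (Amp73.pullS g' M _ (QC70.res M (icut_mono h le_rfl) m)) = _
  rw [show ∀ (A B : X.Opens) (le : B ≤ A) (a : Γ(M, A)), Amp73.pullS g' M B (QC70.res M le a) =
    QC70.res ((Scheme.Modules.pullback g').obj M) (g'.preimage_mono le) (Amp73.pullS g' M A a) from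
    fun A B le a => Mero90.app_res _ le a, QC70.res_res]
  rfl

variable (H : IsPullback g' f' f g)

include H in
/-- Base change of one index. -/
theorem isIso_phi (V : X.Opens) [IsAffineHom (V.ι ≫ f)] (hM : Coh.IsQCoh M) : IsIso (phi M w V) := by
  have : M.IsQuasicoherent := hM
  let G := (Scheme.Modules.pushforward f).obj ((CechOX.pushRestr V).obj M)
  have : G.IsQuasicoherent :=
    (SheafOfModules.isQuasicoherent S.ringCatSheaf).prop_of_iso
      ((Scheme.Modules.pushforwardComp V.ι f).app (M.restrict V.ι)).symm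
      (QCqs72.isQuasicoherent_pushforward (M.restrict V.ι) (V.ι ≫ f))
  refine FMK72.isIso_of_basis _ fun y W hy => ?_
  obtain ⟨U, hU, hyU, -⟩ := exists_isAffineOpen_mem_and_subset (X := S) (x := g y) (U := ⊤) trivial
  obtain ⟨U', hU', hyU', hU'W⟩ := exists_isAffineOpen_mem_and_subset (X := S') (x := y)
    (U := W ⊓ g ⁻¹ᵁ U) ⟨hy, hyU⟩
  refine ⟨U', fun a ha => (hU'W ha).1, hyU', ?_⟩
  have e : U' ≤ g ⁻¹ᵁ U := fun a ha => (hU'W ha).2
  have hA : IsAffineOpen (icut V (f ⁻¹ᵁ U)) :=
    (hU.preimage (V.ι ≫ f)).image_of_isOpenImmersion V.ι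
  have hAU : icut V (f ⁻¹ᵁ U) ≤ f ⁻¹ᵁ U := V.ι.image_preimage_le _
  have hW : icut (g' ⁻¹ᵁ V) (f' ⁻¹ᵁ U') = g' ⁻¹ᵁ (icut V (f ⁻¹ᵁ U)) ⊓ f' ⁻¹ᵁ U' := by
    rw [icut_eq, icut_eq]
    change _ = (g' ⁻¹ᵁ V ⊓ g' ⁻¹ᵁ (f ⁻¹ᵁ U)) ⊓ f' ⁻¹ᵁ U'
    rw [← preimage_eq w U, inf_assoc, inf_eq_right.2 (f'.preimage_mono e)]
  refine bijective_bc H M G hU hU' e hA hAU hW (hW.le.trans inf_le_left) (hW.le.trans inf_le_right)
    (AddEquiv.refl Γ(M, icut V (f ⁻¹ᵁ U))) ?_ ((phi M w V).app U').hom ?_ ?_
  · intro r s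
    change ((V.ι.appIso _).inv (V.ι.app _ (f.app U r))) • (show Γ(M, icut V (f ⁻¹ᵁ U)) from s) =
      (f.appLE U (icut V (f ⁻¹ᵁ U)) hAU).hom r • (show Γ(M, icut V (f ⁻¹ᵁ U)) from s)
    congr 1
    exact ConcreteCategory.congr_hom (V.ι.app_appIso_inv (f ⁻¹ᵁ U)) (f.app U r)
  · intro b s
    refine ((phi M w V).app_smul b s).trans ?_
    change (((g' ⁻¹ᵁ V).ι.appIso _).inv ((g' ⁻¹ᵁ V).ι.app _ (f'.app U' b))) •
      (show Γ((Scheme.Modules.pullback g').obj M, icut (g' ⁻¹ᵁ V) (f' ⁻¹ᵁ U')) from (phi M w V).app U' s) = _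
    congr 1
    exact ConcreteCategory.congr_hom ((g' ⁻¹ᵁ V).ι.app_appIso_inv (f' ⁻¹ᵁ U')) (f'.app U' b)
  · intro m
    show (phi M w V).app U' (QC70.res _ e (Amp73.pullS g G U m)) = _
    rw [Mero90.app_res]
    refine (congrArg _ (phi_app_pullS M w V U m)).trans ?_
    show QC70.res ((Scheme.Modules.pullback g').obj M) (icut_mono le_rfl (f'.preimage_mono e))
        (QC70.res ((Scheme.Modules.pullback g').obj M) (icut_pre_le' w V U)
          (Amp73.pullS g' M (icut V (f ⁻¹ᵁ U)) m)) = _
    rw [QC70.res_res]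
    rfl

variable (T : Sys X)

/-- The base change map in one degree. -/
def phiN (n : ℕ) : (Scheme.Modules.pullback g).obj (((relCx T f).obj M).X n) ⟶
    ((relCx (preSys g' T) f').obj ((Scheme.Modules.pullback g').obj M)).X n :=
  have : PreservesLimitsOfSize.{u, u} (Scheme.Modules.pushforward f') :=
    (Scheme.Modules.pullbackPushforwardAdjunction f').rightAdjoint_preservesLimits
  Pi.lift (fun t : Idx T n => (Scheme.Modules.pullback g).map
      ((Scheme.Modules.pushforward f).map (sπ T M t)) ≫ phi M w (opn T t)) ≫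
    (PreservesProduct.iso (Scheme.Modules.pushforward f')
      (fun t : Idx (preSys g' T) n =>
        (CechOX.pushRestr (opn (preSys g' T) t)).obj ((Scheme.Modules.pullback g').obj M))).inv

lemma phiN_π (n : ℕ) (t : Idx T n) :
    phiN M w T n ≫ (Scheme.Modules.pushforward f').map
        (sπ (preSys g' T) ((Scheme.Modules.pullback g').obj M) t) =
      (Scheme.Modules.pullback g).map ((Scheme.Modules.pushforward f).map (sπ T M t)) ≫
        phi M w (opn T t) := by
  have : PreservesLimitsOfSize.{u, u} (Scheme.Modules.pushforward f') :=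
    (Scheme.Modules.pullbackPushforwardAdjunction f').rightAdjoint_preservesLimits
  let F := fun t : Idx (preSys g' T) n =>
    (CechOX.pushRestr (opn (preSys g' T) t)).obj ((Scheme.Modules.pullback g').obj M)
  have h : (PreservesProduct.iso (Scheme.Modules.pushforward f') F).inv ≫
      (Scheme.Modules.pushforward f').map (Pi.π F t) = Pi.π _ t := by
    rw [Iso.inv_comp_eq, PreservesProduct.iso_hom, piComparison_comp_π]
  exact (Category.assoc _ _ _).trans ((congrArg _ h).trans (Pi.lift_π _ t))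

lemma pushforward_pi_hom_ext {n : ℕ} (T' : Sys X') (N : X'.Modules) {Z : S'.Modules}
    (a b : Z ⟶ ((relCx T' f').obj N).X n)
    (h : ∀ t : Idx T' n, a ≫ (Scheme.Modules.pushforward f').map (sπ T' N t) =
      b ≫ (Scheme.Modules.pushforward f').map (sπ T' N t)) : a = b := by
  have : PreservesLimitsOfSize.{u, u} (Scheme.Modules.pushforward f') :=
    (Scheme.Modules.pullbackPushforwardAdjunction f').rightAdjoint_preservesLimits
  exact (isLimitOfPreserves (Scheme.Modules.pushforward f')
    (productIsProduct fun t : Idx T' n => (CechOX.pushRestr (opn T' t)).obj N)).hom_ext fun ⟨t⟩ => h t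

variable [(Scheme.Modules.pullback g).Additive]

lemma phiN_comm (n : ℕ) :
    phiN M w T n ≫ ((relCx (preSys g' T) f').obj ((Scheme.Modules.pullback g').obj M)).d n (n + 1) =
      (Scheme.Modules.pullback g).map (((relCx T f).obj M).d n (n + 1)) ≫ phiN M w T (n + 1) := by
  let M' := (Scheme.Modules.pullback g').obj M
  let P := Scheme.Modules.pushforward f
  let P' := Scheme.Modules.pushforward f'
  let L := Scheme.Modules.pullback g
  refine pushforward_pi_hom_ext (preSys g' T) M' _ _ fun u => ?_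
  change (phiN M w T n ≫ P'.map (((cxSh (preSys g' T)).obj M').d n (n + 1))) ≫ _ =
    (L.map (P.map (((cxSh T).obj M).d n (n + 1))) ≫ phiN M w T (n + 1)) ≫ _
  rw [Category.assoc, Category.assoc, phiN_π, ← Functor.map_comp, d_sπ, ← Category.assoc,
    ← Functor.map_comp, ← Functor.map_comp, d_sπ, Functor.map_sum, Functor.map_sum, Functor.map_sum,
    Preadditive.comp_sum, Preadditive.sum_comp]
  refine Finset.sum_congr rfl fun j _ => ?_
  rw [Functor.map_zsmul, Functor.map_zsmul, Functor.map_zsmul, Preadditive.comp_zsmul,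
    Preadditive.zsmul_comp]
  congr 1
  rw [Functor.map_comp, Functor.map_comp, Functor.map_comp, Category.assoc]
  refine (Category.assoc _ _ _).symm.trans ((congrArg (· ≫ _) (phiN_π M w T n (face T j u))).trans ?_)
  rw [Category.assoc, phi_natural]

include H in
theorem isIso_phiN (n : ℕ) [Finite (Idx T n)] (haff : ∀ t : Idx T n, IsAffineHom ((opn T t).ι ≫ f))
    (hM : Coh.IsQCoh M) : IsIso (phiN M w T n) := by
  have : PreservesLimitsOfSize.{u, u} (Scheme.Modules.pushforward f) :=
    (Scheme.Modules.pullbackPushforwardAdjunction f).rightAdjoint_preservesLimits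
  let P := fun t : Idx T n => (CechOX.pushRestr (opn T t)).obj M
  let L := Scheme.Modules.pullback g
  have : PreservesFiniteProducts L := inferInstance
  have : PreservesLimit (Discrete.functor fun t => (Scheme.Modules.pushforward f).obj (P t)) L := inferInstance
  let i₁ := L.mapIso (PreservesProduct.iso (Scheme.Modules.pushforward f) P) ≪≫
    PreservesProduct.iso L fun t => (Scheme.Modules.pushforward f).obj (P t)
  have := fun t : Idx T n => @isIso_phi _ _ _ _ _ M _ _ _ w H (opn T t) (haff t) hM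
  let i₂ := Pi.mapIso fun t : Idx T n => asIso (phi M w (opn T t))
  have hi : ∀ t, i₁.hom ≫ i₂.hom ≫ Pi.π _ t =
      L.map ((Scheme.Modules.pushforward f).map (Pi.π P t)) ≫ phi M w (opn T t) := fun t => by
    have h₂ : i₂.hom ≫ Pi.π _ t = Pi.π _ t ≫ phi M w (opn T t) :=
      limMap_π _ (Discrete.mk t)
    have h₁ : i₁.hom ≫ Pi.π (fun t => L.obj ((Scheme.Modules.pushforward f).obj (P t))) t =
        L.map ((Scheme.Modules.pushforward f).map (Pi.π P t)) := by
      simp only [i₁, Iso.trans_hom, Functor.mapIso_hom, PreservesProduct.iso_hom, Category.assoc,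
        piComparison_comp_π]
      rw [← L.map_comp, piComparison_comp_π]
    rw [h₂, ← Category.assoc]
    exact congrArg (· ≫ _) h₁
  unfold phiN
  have he : (Pi.lift fun t : Idx T n => L.map ((Scheme.Modules.pushforward f).map (sπ T M t)) ≫
      phi M w (opn T t)) = i₁.hom ≫ i₂.hom :=
    Pi.hom_ext _ _ fun t => (Pi.lift_π _ t).trans ((hi t).symm.trans (Category.assoc _ _ _).symm)
  change IsIso ((Pi.lift fun t : Idx T n => L.map ((Scheme.Modules.pushforward f).map (sπ T M t)) ≫
      phi M w (opn T t)) ≫ _)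
  rw [he]
  infer_instance

include H in
/-- Base change of the complex. -/
theorem nonempty_bcIso [∀ n, Finite (Idx T n)] (haff : ∀ n (t : Idx T n), IsAffineHom ((opn T t).ι ≫ f))
    (hM : Coh.IsQCoh M) :
    Nonempty (((Scheme.Modules.pullback g).mapHomologicalComplex (ComplexShape.up ℕ)).obj
        ((relCx T f).obj M) ≅
      (relCx (preSys g' T) f').obj ((Scheme.Modules.pullback g').obj M)) := by
  have := fun n => isIso_phiN M H.w H T n (haff n) hM
  exact ⟨HomologicalComplex.Hom.isoOfComponents (fun n => asIso (phiN M H.w T n)) fun i j hij => by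
    obtain rfl : i + 1 = j := hij
    exact phiN_comm M H.w T i⟩

omit [(Scheme.Modules.pullback g).Additive] in
include H in
theorem isAffineHom_preSys {n : ℕ} (t : Idx T n) [IsAffineHom ((opn T t).ι ≫ f)] :
    IsAffineHom ((opn (preSys g' T) t).ι ≫ f') :=
  MorphismProperty.of_isPullback ((isPullback_morphismRestrict g' (opn T t)).paste_vert H) inferInstance

instance {n : ℕ} [h : Finite (Idx T n)] : Finite (Idx (preSys g' T) n) := h

/-- Contractions pull back. -/
theorem cone_preSys (hc : ∀ x, Nonempty (Cone T x)) (x : X') : Nonempty (Cone (preSys g' T) x) := by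
  obtain ⟨c⟩ := hc (g' x)
  exact ⟨{ k := c.k, mem_k := c.mem_k, h := c.h, mem := c.mem, face_zero := c.face_zero,
           face_succ := c.face_succ, face_one := c.face_one }⟩

end Groth.Agent.Cx47
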