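import Groth.Agent.Cx47.SysPush
import Groth.Agent.QC70.CohOps
import Groth.Agent.QCqs72.Basic

/-!
The Čech system of a covering; quasi-coherence of the terms.
-/

universe u

open CategoryTheory CategoryTheory.Limits AlgebraicGeometry TopologicalSpace Opposite Simplicial

set_option autoImplicit false
set_option backward.isDefEq.respectTransparency.types false

noncomputable section

namespace Groth.Agent.Cx47

variable {X S : Scheme.{u}}

/-- The Čech system of a family of opens. -/
abbrev cechSys {ι : Type u} (𝒰 : ι → X.Opens) : Sys X := (FormalCoproduct.mk _ 𝒰).cech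

instance {ι : Type u} [Finite ι] (𝒰 : ι → X.Opens) (n : ℕ) : Finite (Idx (cechSys 𝒰) n) :=
  inferInstanceAs (Finite (Fin (n + 1) → ι))

lemma tOpen_eq_iInf {ι : Type u} (𝒰 : ι → X.Opens) {n : ℕ} (i : Fin n → ι) :
    tOpen 𝒰 i = ⨅ j, 𝒰 (i j) :=
  le_antisymm (le_iInf fun j => tOpen_le 𝒰 i j) (le_tOpen 𝒰 fun j => iInf_le (fun j => 𝒰 (i j)) j)

theorem isAffineOpen_opn_cechSys [IsAffineHom (pullback.diagonal (terminal.from X))] {ι : Type u}
    (𝒰 : ι → X.Opens) (h𝒰 : ∀ i, IsAffineOpen (𝒰 i)) {n : ℕ} (t : Idx (cechSys 𝒰) n) :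
    IsAffineOpen (opn (cechSys 𝒰) t) := by
  change IsAffineOpen (tOpen 𝒰 (show Fin (n + 1) → ι from t))
  rw [tOpen_eq_iInf]
  exact IsAffineOpen.iInf fun j => h𝒰 _

/-- Contractibility of the Čech system of a covering. -/
theorem cone_cechSys {ι : Type u} (𝒰 : ι → X.Opens) (hcov : ⨆ i, 𝒰 i = ⊤) (x : X) :
    Nonempty (Cone (cechSys 𝒰) x) := by
  obtain ⟨k, hk⟩ := Opens.mem_iSup.1 (show x ∈ ⨆ i, 𝒰 i by rw [hcov]; exact Set.mem_univ _)
  have hmem : ∀ {n : ℕ} (i : Fin n → ι), x ∈ tOpen 𝒰 i ↔ ∀ j, x ∈ 𝒰 (i j) := fun {n} i => by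
    refine ⟨fun h j => tOpen_le 𝒰 i j h, fun h => ?_⟩
    rw [tOpen_eq_iInf, ← SetLike.mem_coe, Opens.coe_iInf]
    exact Set.mem_iInter.2 h
  exact ⟨{
    k := (fun _ => k : Fin 1 → ι)
    mem_k := (hmem _).2 fun _ => hk
    h := fun n t => (Fin.cons k (show Fin (n + 1) → ι from t) : Fin (n + 2) → ι)
    mem := fun n t ht => (hmem _).2 fun j => by
      refine Fin.cases ?_ (fun j => ?_) j
      · simpa using hk
      · simpa using (hmem _).1 ht j
    face_zero := fun n t _ => funext fun j => by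
      change (Fin.cons k t : Fin (n + 2) → ι) ((0 : Fin (n + 2)).succAbove j) = _
      simp
    face_succ := fun n j t _ => funext fun m => by
      change (Fin.cons k t : Fin (n + 3) → ι) (j.succ.succAbove m) =
        (Fin.cons k (fun m => (t : Fin (n + 2) → ι) (j.succAbove m)) : Fin (n + 2) → ι) m
      refine Fin.cases ?_ (fun m => ?_) m
      · simp
      · simp [Fin.succ_succAbove_succ]
    face_one := fun t _ => funext fun m => by
      change (Fin.cons k t : Fin 2 → ι) ((1 : Fin 2).succAbove m) = _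
      obtain rfl : (m : Fin 1) = 0 := Fin.eq_zero _
      rfl }⟩

/-- A morphism from an affine scheme to a scheme with affine diagonal is affine. -/
theorem isAffineHom_of_isAffine_source [IsAffineHom (pullback.diagonal (terminal.from S))]
    {Y : Scheme.{u}} [IsAffine Y] (g : Y ⟶ S) : IsAffineHom g := by
  haveI : MorphismProperty.HasOfPostcompProperty @IsAffineHom
      (MorphismProperty.diagonal @IsAffineHom) :=
    MorphismProperty.hasOfPostcompProperty_iff_le_diagonal.mpr le_rfl
  have h : IsAffineHom (g ≫ terminal.from S) := by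
    rw [terminal.comp_from]
    exact isAffineHom_of_isAffine _
  exact MorphismProperty.of_postcomp (W := @IsAffineHom) (W' := MorphismProperty.diagonal @IsAffineHom)
    g (terminal.from S) ‹_› h

/-- Finite products of quasi-coherent modules. -/
theorem isQCoh_pi {κ : Type u} [Finite κ] (M : κ → S.Modules) (h : ∀ t, Coh.IsQCoh (M t)) :
    Coh.IsQCoh (∏ᶜ M) := by
  obtain ⟨n, ⟨e⟩⟩ := Finite.exists_equiv_fin κ
  let i : (⨁ fun j : Fin n => M (e.symm j)) ≅ ∏ᶜ M :=
    biproduct.isoProduct _ ≪≫ (Pi.whiskerEquiv e fun t => eqToIso (by simp)).symm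
  exact (SheafOfModules.isQuasicoherent S.ringCatSheaf).prop_of_iso i
    (QC70.biproduct_induction (fun N => Coh.IsQCoh N) (fun _ hN => QC70.isQuasicoherent_of_isZero hN)
      (fun T hT h₁ h₃ => by
        have : T.X₁.IsQuasicoherent := h₁
        have : T.X₃.IsQuasicoherent := h₃
        exact QC70.isQuasicoherent_X₂ T hT) _ fun j => h _)

/-- The terms of the pushed forward complex are quasi-coherent. -/
theorem isQCoh_relCx (T : Sys X) (f : X ⟶ S) {n : ℕ} [Finite (Idx T n)]
    (haff : ∀ t : Idx T n, IsAffineHom ((opn T t).ι ≫ f)) (F : X.Modules) (hF : Coh.IsQCoh F) :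
    Coh.IsQCoh (((relCx T f).obj F).X n) := by
  let P := Scheme.Modules.pushforward f
  have : PreservesLimitsOfSize.{u, u} P :=
    (Scheme.Modules.pullbackPushforwardAdjunction f).rightAdjoint_preservesLimits
  let i : ((relCx T f).obj F).X n ≅ ∏ᶜ fun t : Idx T n => P.obj ((CechOX.pushRestr (opn T t)).obj F) :=
    PreservesProduct.iso P (fun t : Idx T n => (CechOX.pushRestr (opn T t)).obj F)
  refine (SheafOfModules.isQuasicoherent S.ringCatSheaf).prop_of_iso i.symm (isQCoh_pi _ fun t => ?_)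
  have : IsAffineHom ((opn T t).ι ≫ f) := haff t
  have : F.IsQuasicoherent := hF
  exact (SheafOfModules.isQuasicoherent S.ringCatSheaf).prop_of_iso
    ((Scheme.Modules.pushforwardComp (opn T t).ι f).app (F.restrict (opn T t).ι)).symm
    (QCqs72.isQuasicoherent_pushforward (F.restrict (opn T t).ι) ((opn T t).ι ≫ f))

end Groth.Agent.Cx47
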