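import Groth.Agent.Cx47.SysBC
import Groth.Agent.CohDer42.AcCrit

/-!
Comparison of systems of opens, the system of a covering with coverings of the pairwise intersections,
and the representing complexes for arbitrary base change.
-/

universe u

open CategoryTheory CategoryTheory.Limits AlgebraicGeometry TopologicalSpace Opposite Simplicial

attribute [local instance] HasDerivedCategory.standard

set_option autoImplicit false
set_option backward.isDefEq.respectTransparency.types false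

noncomputable section

namespace Groth.Agent.Cx47

variable {X X' S S' : Scheme.{u}}

lemma fc_hom_ext {U V : FormalCoproduct.{u} X.Opens} {a b : U ⟶ V} (h : a.f = b.f) : a = b :=
  FormalCoproduct.hom_ext h fun _ => Subsingleton.elim _ _

/-- Isomorphic systems have isomorphic complexes. -/
def relCxIsoOfSys {T T' : Sys X} (e : T ≅ T') (f : X ⟶ S) (F : X.Modules) :
    (relCx T f).obj F ≅ (relCx T' f).obj F :=
  ((Scheme.Modules.pushforward f).mapHomologicalComplex (ComplexShape.up ℕ)).mapIso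
    ((AlgebraicTopology.alternatingCofaceMapComplex X.Modules).mapIso
      (NatIso.ofComponents (fun n => ((FormalCoproduct.evalOp.{u} X.Opens X.Modules).obj
          (CechOX.pushRestrFam.flip.obj F)).mapIso (e.app (op n)).op.symm)
        fun {m n} φ => by
          let E := (FormalCoproduct.evalOp.{u} X.Opens X.Modules).obj (CechOX.pushRestrFam.flip.obj F)
          change E.map (T.map φ.op).op ≫ E.map (e.inv.app (op n)).op =
            E.map (e.inv.app (op m)).op ≫ E.map (T'.map φ.op).op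
          rw [← E.map_comp, ← E.map_comp, ← op_comp, ← op_comp, e.inv.naturality]))

/-- The inverse image of the Čech system is the Čech system of the inverse images. -/
def preCechIso {ι : Type u} (g' : X' ⟶ X) (𝒰 : ι → X.Opens) :
    preSys g' (cechSys 𝒰) ≅ cechSys fun i => g' ⁻¹ᵁ 𝒰 i :=
  NatIso.ofComponents (fun n =>
    have h₁ : ∀ t : (ToType n.unop → ι), g' ⁻¹ᵁ (∏ᶜ (𝒰 ∘ t)) ≤ ∏ᶜ ((fun i => g' ⁻¹ᵁ 𝒰 i) ∘ t) := fun t =>
      leOfHom (Pi.lift (f := (fun i => g' ⁻¹ᵁ 𝒰 i) ∘ t) fun j =>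
        homOfLE (g'.preimage_mono (leOfHom (Pi.π (𝒰 ∘ t) j))))
    have h₂ : ∀ t : (ToType n.unop → ι), (∏ᶜ ((fun i => g' ⁻¹ᵁ 𝒰 i) ∘ t)) ≤ g' ⁻¹ᵁ (∏ᶜ (𝒰 ∘ t)) := fun t => by
      intro x hx
      have h : ∀ j, g' x ∈ 𝒰 (t j) := fun j => leOfHom (Pi.π ((fun i => g' ⁻¹ᵁ 𝒰 i) ∘ t) j) hx
      have hle : (⨅ j, 𝒰 (t j)) ≤ ∏ᶜ (𝒰 ∘ t) :=
        leOfHom (Pi.lift (f := 𝒰 ∘ t) fun j => homOfLE (iInf_le (fun j => 𝒰 (t j)) j))
      refine hle ?_
      rw [← SetLike.mem_coe, Opens.coe_iInf]
      exact Set.mem_iInter.2 h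
    { hom := ⟨id, fun t => homOfLE (h₁ t)⟩
      inv := ⟨id, fun t => homOfLE (h₂ t)⟩
      hom_inv_id := fc_hom_ext rfl
      inv_hom_id := fc_hom_ext rfl })
    fun φ => fc_hom_ext rfl

/-- The base changed complex represents the derived direct image. -/
theorem nonempty_bc_iso_Rpush {g' : X' ⟶ X} {f' : X' ⟶ S'} {f : X ⟶ S} {g : S' ⟶ S}
    (H : IsPullback g' f' f g) [(Scheme.Modules.pullback g).Additive] (T : Sys X)
    [∀ n, Finite (Idx T n)] (haff : ∀ n (t : Idx T n), IsAffineHom ((opn T t).ι ≫ f))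
    (hc : ∀ x, Nonempty (Cone T x)) (F : X.Modules) (hF : Coh.IsQCoh F) [DCoh.HasRpush f'] :
    Nonempty (DCoh.toD S' ((((Scheme.Modules.pullback g).mapHomologicalComplex (ComplexShape.up ℕ)).obj
        ((relCx T f).obj F)).extend ComplexShape.embeddingUpNat) ≅
      (DCoh.Rpush f').obj (DCoh.inD X' ((Scheme.Modules.pullback g').obj F))) := by
  have : F.IsQuasicoherent := hF
  obtain ⟨e⟩ := nonempty_bcIso F H T haff hF
  obtain ⟨e'⟩ := nonempty_relCx_iso_Rpush (preSys g' T) f'
    (fun n t => have := haff n t; isAffineHom_preSys H T t) (cone_preSys T hc)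
    ((Scheme.Modules.pullback g').obj F) (QCPull72.isQuasicoherent_pullback g' F)
  exact ⟨DerivedCategory.Q.mapIso (((ComplexShape.embeddingUpNat).extendFunctor S'.Modules).mapIso e) ≪≫ e'⟩

/-- Affine opens inside an affine open intersect in affine opens. -/
theorem isAffineOpen_inf_of_le {Y U V : X.Opens} (hY : IsAffineOpen Y) (hU : IsAffineOpen U)
    (hV : IsAffineOpen V) (hUY : U ≤ Y) (hVY : V ≤ Y) : IsAffineOpen (U ⊓ V) := by
  have : IsAffine (Y : Scheme.{u}) := hY
  have h : ∀ W : X.Opens, W ≤ Y → Y.ι ''ᵁ (Y.ι ⁻¹ᵁ W) = W := fun W hW => by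
    rw [Scheme.Hom.image_preimage_eq_opensRange_inf, Scheme.Opens.opensRange_ι, inf_eq_right.2 hW]
  have hp : ∀ W : X.Opens, W ≤ Y → IsAffineOpen W → IsAffineOpen (Y.ι ⁻¹ᵁ W) := fun W hW hWa => by
    refine (Scheme.Hom.isAffineOpen_iff_of_isOpenImmersion Y.ι).1 ?_
    rwa [h W hW]
  have h' := ((hp U hUY hU).inf (hp V hVY hV)).image_of_isOpenImmersion Y.ι
  rwa [← Scheme.Hom.preimage_inf, h _ (inf_le_left.trans hUY)] at h'

section Hyper

variable {ι : Type u} (E : ι → ι → Type u) (W : ∀ i k, E i k → X.Opens)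

/-- The indices of the system of a covering and coverings of the pairwise intersections. -/
def HIdx (A : Type) : Type u := Σ i : A → ι, ∀ a b : A, E (i a) (i b)

/-- The open of an index. -/
def hOpn {A : Type} (t : HIdx E A) : X.Opens := ⨅ a, ⨅ b, W (t.1 a) (t.1 b) (t.2 a b)

/-- The system of a covering and coverings of the pairwise intersections. -/
def hyperSys : Sys X where
  obj n := ⟨HIdx E (ToType n.unop), hOpn E W⟩
  map {n m} φ :=
    { f := fun t => ⟨t.1 ∘ φ.unop.toOrderHom, fun a b => t.2 (φ.unop.toOrderHom a) (φ.unop.toOrderHom b)⟩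
      φ := fun t => homOfLE (le_iInf fun a => le_iInf fun b =>
        (iInf_le _ (φ.unop.toOrderHom a)).trans (iInf_le (fun b' => W _ _ (t.2 (φ.unop.toOrderHom a) b')) _)) }
  map_id _ := fc_hom_ext rfl
  map_comp _ _ := fc_hom_ext rfl

instance [Finite ι] [∀ i k, Finite (E i k)] (n : ℕ) : Finite (Idx (hyperSys E W) n) :=
  inferInstanceAs (Finite (Σ i : Fin (n + 1) → ι, ∀ a b : Fin (n + 1), E (i a) (i b)))

lemma mem_hOpn {A : Type} [Finite A] (t : HIdx E A) (x : X) :
    x ∈ hOpn E W t ↔ ∀ a b, x ∈ W (t.1 a) (t.1 b) (t.2 a b) := by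
  rw [hOpn, ← SetLike.mem_coe, Opens.coe_iInf]
  simp only [Set.mem_iInter, Opens.coe_iInf]
  rfl

variable {E W} {U : ι → X.Opens} (hU : ∀ i, IsAffineOpen (U i))
  (hW : ∀ i k e, IsAffineOpen (W i k e)) (hWl : ∀ i k e, W i k e ≤ U i) (hWr : ∀ i k e, W i k e ≤ U k)

include hU hW hWl hWr in
/-- The opens of the system are affine. -/
theorem isAffineOpen_hOpn {n : ℕ} (t : HIdx E (Fin (n + 1))) : IsAffineOpen (hOpn E W t) := by
  let w := fun a b => W (t.1 a) (t.1 b) (t.2 a b)
  let C := fun p : Fin (n + 1) × Fin (n + 1) => (w 0 0 ⊓ w 0 p.1) ⊓ w p.1 p.2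
  have hC : ∀ p, IsAffineOpen (C p) := fun p => by
    have h1 : IsAffineOpen (w 0 0 ⊓ w 0 p.1) :=
      isAffineOpen_inf_of_le (hU (t.1 0)) (hW _ _ _) (hW _ _ _) (hWl _ _ _) (hWl _ _ _)
    exact isAffineOpen_inf_of_le (hU (t.1 p.1)) h1 (hW _ _ _) (inf_le_right.trans (hWr _ _ _)) (hWl _ _ _)
  have heq : hOpn E W t = ⨅ p, C p :=
    le_antisymm (le_iInf fun p => le_inf (le_inf ((iInf_le _ 0).trans (iInf_le _ 0))
        ((iInf_le _ 0).trans (iInf_le _ p.1))) ((iInf_le _ p.1).trans (iInf_le _ p.2)))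
      (le_iInf fun a => le_iInf fun b => (iInf_le C (a, b)).trans inf_le_right)
  rw [heq]
  exact (InfClosed.iInf_mem_of_nonempty (s := Set.ofPred fun V : X.Opens => IsAffineOpen V ∧ V ≤ w 0 0)
    (fun _ h _ h' => ⟨isAffineOpen_inf_of_le (hW _ _ _) h.1 h'.1 h.2 h'.2, inf_le_left.trans h.2⟩)
    fun p => ⟨hC p, inf_le_left.trans inf_le_left⟩).1

lemma hIdx_ext {A : Type} {t t' : HIdx E A} (h₁ : t.1 = t'.1) (h₂ : ∀ a b, t.2 a b ≍ t'.2 a b) :
    t = t' := by
  obtain ⟨i, p⟩ := t
  obtain ⟨i', p'⟩ := t'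
  obtain rfl : i = i' := h₁
  exact congrArg (Sigma.mk i) (funext fun a => funext fun b => eq_of_heq (h₂ a b))

lemma hIdx_heq {A : Type} (t : HIdx E A) {a a' b b' : A} (ha : a = a') (hb : b = b') :
    t.2 a b ≍ t.2 a' b' := by
  subst ha hb; rfl

/-- An index with one more vertex, given the edges to the new vertex. -/
def hCons {n : ℕ} (k : ι) (ekk : E k k) (t : HIdx E (Fin (n + 1))) (el : ∀ b, E k (t.1 b))
    (er : ∀ a, E (t.1 a) k) : HIdx E (Fin (n + 2)) :=
  ⟨Fin.cons k t.1, Fin.cases (Fin.cases ekk el) fun a => Fin.cases (er a) (t.2 a)⟩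

include hWl hWr in
/-- Contractibility. -/
theorem cone_hyperSys (hcov : ⨆ i, U i = ⊤)
    (hWc : ∀ i k (x : X), x ∈ U i → x ∈ U k → ∃ e, x ∈ W i k e) (x : X) :
    Nonempty (Cone (hyperSys E W) x) := by
  classical
  obtain ⟨k, hk⟩ := Opens.mem_iSup.1 (show x ∈ ⨆ i, U i by rw [hcov]; exact Set.mem_univ _)
  choose el hel using fun (i : ι) (hi : x ∈ U i) => hWc k i x hk hi
  choose er her using fun (i : ι) (hi : x ∈ U i) => hWc i k x hi hk
  let ekk := el k hk
  have hv : ∀ {n : ℕ} {t : HIdx E (Fin (n + 1))}, x ∈ hOpn E W t → ∀ a, x ∈ U (t.1 a) := fun {n t} ht a =>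
    hWl _ _ _ ((mem_hOpn E W t x).1 ht a a)
  let h : ∀ n, HIdx E (Fin (n + 1)) → HIdx E (Fin (n + 2)) := fun n t =>
    if ht : x ∈ hOpn E W t then hCons k ekk t (fun b => el _ (hv ht b)) (fun a => er _ (hv ht a))
    else ⟨t.1 ∘ Fin.predAbove 0, fun a b => t.2 (Fin.predAbove 0 a) (Fin.predAbove 0 b)⟩
  have hh : ∀ n t (ht : x ∈ hOpn E W t),
      h n t = hCons k ekk t (fun b => el _ (hv ht b)) (fun a => er _ (hv ht a)) := fun n t ht => dif_pos ht
  exact ⟨{
    k := (⟨fun _ => k, fun _ _ => ekk⟩ : HIdx E (Fin 1))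
    mem_k := (mem_hOpn E W _ x).2 fun _ _ => hel k hk
    h := h
    mem := fun n t ht => by
      change x ∈ hOpn E W (h n t)
      rw [hh _ _ ht]
      refine (mem_hOpn E W _ x).2 fun a b => ?_
      induction a using Fin.cases with
      | zero =>
        induction b using Fin.cases with
        | zero => exact hel k hk
        | succ b => exact hel _ (hv ht b)
      | succ a =>
        induction b using Fin.cases with
        | zero => exact her _ (hv ht a)
        | succ b => exact (mem_hOpn E W t x).1 ht a b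
    face_zero := fun n t ht => by
      let F : HIdx E (Fin (n + 2)) → HIdx E (Fin (n + 1)) := fun t =>
        ⟨t.1 ∘ (0 : Fin (n + 2)).succAbove, fun a b => t.2 ((0 : Fin (n + 2)).succAbove a) ((0 : Fin (n + 2)).succAbove b)⟩
      change F (h n t) = t
      rw [hh _ _ ht]
      refine hIdx_ext (funext fun a => ?_) fun a b => ?_
      · simp [F, hCons]
      · exact (hIdx_heq (hCons k ekk t (fun b => el _ (hv ht b)) fun a => er _ (hv ht a))
          (Fin.succAbove_zero_apply a) (Fin.succAbove_zero_apply b)).trans HEq.rfl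
    face_succ := fun n j t ht => by
      let F : HIdx E (Fin (n + 3)) → HIdx E (Fin (n + 2)) := fun t =>
        ⟨t.1 ∘ j.succ.succAbove, fun a b => t.2 (j.succ.succAbove a) (j.succ.succAbove b)⟩
      let t' : HIdx E (Fin (n + 1)) := ⟨t.1 ∘ j.succAbove, fun a b => t.2 (j.succAbove a) (j.succAbove b)⟩
      change F (h (n + 1) t) = h n t'
      have ht' : x ∈ hOpn E W t' := (mem_hOpn E W t' x).2 fun a b =>
        (mem_hOpn E W t x).1 ht (j.succAbove a) (j.succAbove b)
      rw [hh _ _ ht, hh _ _ ht']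
      let t₁ := hCons k ekk t (fun b => el _ (hv ht b)) fun a => er _ (hv ht a)
      refine hIdx_ext (funext fun a => ?_) fun a b => ?_
      · induction a using Fin.cases with
        | zero => simp [F, hCons]
        | succ a => simp [F, hCons, t', Fin.succ_succAbove_succ]
      · induction a using Fin.cases with
        | zero =>
          induction b using Fin.cases with
          | zero => exact (hIdx_heq t₁ (Fin.succ_succAbove_zero j) (Fin.succ_succAbove_zero j)).trans HEq.rfl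
          | succ b => exact (hIdx_heq t₁ (Fin.succ_succAbove_zero j) (Fin.succ_succAbove_succ j b)).trans HEq.rfl
        | succ a =>
          induction b using Fin.cases with
          | zero => exact (hIdx_heq t₁ (Fin.succ_succAbove_succ j a) (Fin.succ_succAbove_zero j)).trans HEq.rfl
          | succ b => exact (hIdx_heq t₁ (Fin.succ_succAbove_succ j a) (Fin.succ_succAbove_succ j b)).trans HEq.rfl
    face_one := fun t ht => by
      let F : HIdx E (Fin 2) → HIdx E (Fin 1) := fun t =>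
        ⟨t.1 ∘ (1 : Fin 2).succAbove, fun a b => t.2 ((1 : Fin 2).succAbove a) ((1 : Fin 2).succAbove b)⟩
      change F (h 0 t) = _
      rw [hh _ _ ht]
      let t₁ := hCons k ekk t (fun b => el _ (hv ht b)) fun a => er _ (hv ht a)
      have h0 : ∀ a : Fin 1, (1 : Fin 2).succAbove a = 0 := fun a => by
        rw [Fin.eq_zero a]; rfl
      refine hIdx_ext (funext fun a => ?_) fun a b => ?_
      · simp [F, hCons, h0]
      · exact (hIdx_heq t₁ (h0 a) (h0 b)).trans HEq.rfl }⟩

end Hyper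

end Groth.Agent.Cx47

namespace Groth.Agent.Cx47

/-- A quasi-compact quasi-separated scheme has a finite contractible system of affine opens. -/
theorem exists_affine_sys (X : Scheme.{u}) [CompactSpace X] [QuasiSeparatedSpace X] :
    ∃ T : Sys X, (∀ n, Finite (Idx T n)) ∧ (∀ n (t : Idx T n), IsAffineOpen (opn T t)) ∧
      ∀ x, Nonempty (Cone T x) := by
  obtain ⟨s, hs, hcov⟩ := (isCompact_and_isOpen_iff_finite_and_eq_biUnion_affineOpens (U := (Set.univ : Set X))).1
    ⟨isCompact_univ, isOpen_univ⟩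
  have := hs.to_subtype
  let U : ↥s → X.Opens := fun i => i.1.1
  have hU : ∀ i, IsAffineOpen (U i) := fun i => i.1.2
  have hc : ⨆ i, U i = ⊤ := top_le_iff.1 fun x _ => by
    obtain ⟨i, hi, hxi⟩ := Set.mem_iUnion₂.1 (hcov ▸ Set.mem_univ x)
    exact Opens.mem_iSup.2 ⟨⟨i, hi⟩, hxi⟩
  have hk : ∀ i k : ↥s, ∃ t : Set X.affineOpens, t.Finite ∧
      ((U i ⊓ U k : X.Opens) : Set X) = ⋃ e ∈ t, (e.1 : Set X) := fun i k =>
    (isCompact_and_isOpen_iff_finite_and_eq_biUnion_affineOpens).1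
      ⟨QuasiSeparatedSpace.inter_isCompact _ _ (U i).2 (hU i).isCompact (U k).2 (hU k).isCompact,
        (U i ⊓ U k).2⟩
  choose t ht hteq using hk
  let E : ↥s → ↥s → Type u := fun i k => ↥(t i k)
  have : ∀ i k, Finite (E i k) := fun i k => (ht i k).to_subtype
  let W : ∀ i k, E i k → X.Opens := fun i k e => e.1.1
  have hle : ∀ i k e, W i k e ≤ U i ⊓ U k := fun i k e x hx =>
    show x ∈ ((U i ⊓ U k : X.Opens) : Set X) by
      rw [hteq]
      exact Set.mem_iUnion₂.2 ⟨e.1, e.2, hx⟩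
  refine ⟨hyperSys E W, fun n => inferInstance, fun n => isAffineOpen_hOpn hU (fun i k e => e.1.2)
    (fun i k e => (hle i k e).trans inf_le_left) (fun i k e => (hle i k e).trans inf_le_right),
    cone_hyperSys (fun i k e => (hle i k e).trans inf_le_left) (fun i k e => (hle i k e).trans inf_le_right) hc
      fun i k x hxi hxk => ?_⟩
  have hx : x ∈ ((U i ⊓ U k : X.Opens) : Set X) := ⟨hxi, hxk⟩
  rw [hteq] at hx
  obtain ⟨e, he, hxe⟩ := Set.mem_iUnion₂.1 hx
  exact ⟨⟨e, he⟩, hxe⟩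

end Groth.Agent.Cx47
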