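import Groth.Agent.Cx47.Sys
import Groth.Agent.Cx47.DoubleRes
import Groth.Agent.QC70.HomRestrict
import Groth.Agent.Coh69.RelVanish
import Groth.Agent.S11319
import Groth.Agent.DCX42.PushAdj
import Groth.Agent.Coh69.Grothendieck
import Groth.Prelude.Def_DCoh2

/-!
The pushed forward complex of a system of opens with affine maps to the base computes `Rf_*`.
-/

universe u

open CategoryTheory CategoryTheory.Limits AlgebraicGeometry TopologicalSpace Opposite Simplicial

attribute [local instance] HasDerivedCategory.standard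

set_option autoImplicit false
set_option backward.isDefEq.respectTransparency.types false

noncomputable section

namespace Groth.Agent.Cx47

set_option backward.isDefEq.respectTransparency false in
/-- A morphism of complexes is a quasi-isomorphism if a finite partition of the identity of functors
splits it into quasi-isomorphisms. -/
theorem quasiIso_map_of_sum {A B : Type*} [Category A] [Category B] [Abelian A] [Abelian B]
    {κ : Type*} [Fintype κ] (G : A ⥤ B) [G.Additive] (H : κ → A ⥤ B) [∀ t, (H t).Additive]
    (π : ∀ t, G ⟶ H t) (ι : ∀ t, H t ⟶ G) (hsum : ∀ M, ∑ t, (π t).app M ≫ (ι t).app M = 𝟙 (G.obj M))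
    {c : ComplexShape ℤ} {K L : HomologicalComplex A c} (φ : K ⟶ L)
    (h : ∀ t, QuasiIso (((H t).mapHomologicalComplex c).map φ)) :
    QuasiIso ((G.mapHomologicalComplex c).map φ) := by
  rw [quasiIso_iff]
  intro n
  rw [quasiIsoAt_iff_isIso_homologyMap]
  let Hn := HomologicalComplex.homologyFunctor B c n
  let p := fun t K => Hn.map ((NatTrans.mapHomologicalComplex (π t) c).app K)
  let q := fun t K => Hn.map ((NatTrans.mapHomologicalComplex (ι t) c).app K)
  have hid : ∀ K, ∑ t, p t K ≫ q t K = 𝟙 _ := fun K => by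
    simp only [p, q, ← Functor.map_comp]
    rw [← Functor.map_sum, ← Hn.map_id]
    congr 1
    ext i
    rw [HomologicalComplex.id_f, ← HomologicalComplex.eval_map, Functor.map_sum]
    simp only [HomologicalComplex.eval_map, HomologicalComplex.comp_f, NatTrans.mapHomologicalComplex_app_f]
    exact hsum (K.X i)
  let Φ := Hn.map ((G.mapHomologicalComplex c).map φ)
  let Φ' := fun t => Hn.map (((H t).mapHomologicalComplex c).map φ)
  have : ∀ t, IsIso (Φ' t) := fun t => by
    have := h t
    change IsIso (HomologicalComplex.homologyMap _ n)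
    infer_instance
  have hp : ∀ t, Φ ≫ p t L = p t K ≫ Φ' t := fun t => by
    simp only [Φ, Φ', p, ← Functor.map_comp, NatTrans.naturality]
  have hq : ∀ t, q t K ≫ Φ = Φ' t ≫ q t L := fun t => by
    simp only [Φ, Φ', q, ← Functor.map_comp, NatTrans.naturality]
  refine ⟨∑ t, p t L ≫ inv (Φ' t) ≫ q t K, ?_, ?_⟩
  · change Φ ≫ _ = _
    refine (Preadditive.comp_sum _ _ _).trans (Eq.trans ?_ (hid K))
    refine Finset.sum_congr rfl fun t _ => ?_
    rw [← Category.assoc, hp, Category.assoc, IsIso.hom_inv_id_assoc]
  · change _ ≫ Φ = _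
    refine (Preadditive.sum_comp _ _ _).trans (Eq.trans ?_ (hid L))
    refine Finset.sum_congr rfl fun t _ => ?_
    rw [Category.assoc, Category.assoc, hq, IsIso.inv_hom_id_assoc]

variable {X S : Scheme.{u}}

/-- Higher direct images of a quasi-coherent module along an affine morphism vanish. -/
theorem isZero_rightDerived_pushforward (g : X ⟶ S) [IsAffineHom g] (M : X.Modules)
    (hM : Coh.IsQCoh M) (n : ℕ) :
    IsZero (((Scheme.Modules.pushforward g).rightDerived (n + 1)).obj M) := by
  have : M.IsQuasicoherent := hM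
  obtain ⟨e⟩ := Groth.Agent.S11319.result g M (n + 1)
  have hz := (Coh69.isZero_RpushAb_of_isAffineHom g M n).of_iso e
  rw [IsZero.iff_id_eq_zero] at hz ⊢
  exact (SheafOfModules.toSheaf S.ringCatSheaf).map_injective
    (((SheafOfModules.toSheaf _).map_id _).trans (hz.trans (Functor.map_zero _ _ _).symm))

variable (T : Sys X) (f : X ⟶ S)

/-- The pushed forward complex. -/
def relCx : X.Modules ⥤ CochainComplex S.Modules ℕ :=
  cxSh T ⋙ (Scheme.Modules.pushforward f).mapHomologicalComplex (ComplexShape.up ℕ)

instance : (relCx T f).Additive := by unfold relCx; infer_instance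

/-- Its coaugmentation. -/
def relAug : Scheme.Modules.pushforward f ⟶
    relCx T f ⋙ HomologicalComplex.eval S.Modules (ComplexShape.up ℕ) 0 where
  app M := (Scheme.Modules.pushforward f).map ((cxAug T).app M)
  naturality M N φ := by
    refine ((Functor.map_comp _ _ _).symm.trans ?_).trans (Functor.map_comp _ _ _)
    exact congrArg _ ((cxAug T).naturality φ)

lemma relAug_d (M : X.Modules) : (relAug T f).app M ≫ ((relCx T f).obj M).d 0 1 = 0 :=
  (((Scheme.Modules.pushforward f).map_comp _ _).symm.trans
    (congrArg _ (cxAug_d T M))).trans (Functor.map_zero _ _ _)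

lemma mono_relAug {M : X.Modules} (h : Resolves T M) : Mono ((relAug T f).app M) := by
  refine ⟨fun {Z} a b e => ?_⟩
  ext W z
  exact h.1 (f ⁻¹ᵁ W) congr($(e).app W z)

lemma exact_relAug {M : X.Modules} (h : Resolves T M) :
    (ShortComplex.mk _ _ (relAug_d T f M)).Exact :=
  exact_of_locally _ _ _ fun W t ht z => by
    obtain ⟨m, hm⟩ := h.2.1 (f ⁻¹ᵁ W) t ht
    exact ⟨W, le_rfl, z.2, m, hm.trans (res_self _ _ _).symm⟩

lemma exactAt_relCx {M : X.Modules} (h : Resolves T M) (n : ℕ) :
    ((relCx T f).obj M).ExactAt (n + 1) := by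
  rw [HomologicalComplex.exactAt_iff' _ n (n + 1) (n + 2) (by simp) (by simp)]
  exact exact_of_locally _ _ _ fun W t ht z => by
    obtain ⟨r, hr⟩ := h.2.2 n (f ⁻¹ᵁ W) t ht
    exact ⟨W, le_rfl, z.2, r, hr.trans (res_self _ _ _).symm⟩

/-- The functor of one index. -/
abbrev relTerm {n : ℕ} (t : Idx T n) : X.Modules ⥤ S.Modules :=
  CechOX.pushRestr (opn T t) ⋙ Scheme.Modules.pushforward f

/-- The terms of the complex are exact on an injective resolution. -/
theorem quasiIso_relCx_map {n : ℕ} [Finite (Idx T n)] (haff : ∀ t : Idx T n, IsAffineHom ((opn T t).ι ≫ f))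
    (F : X.Modules) (hF : Coh.IsQCoh F) (R : InjectiveResolution F) :
    QuasiIso (((relCx T f ⋙ HomologicalComplex.eval S.Modules (ComplexShape.up ℕ) n).mapHomologicalComplex
      (ComplexShape.up ℤ)).map R.ι') := by
  classical
  have := Fintype.ofFinite (Idx T n)
  let P := Scheme.Modules.pushforward f
  let π : ∀ t : Idx T n, relCx T f ⋙ HomologicalComplex.eval S.Modules (ComplexShape.up ℕ) n ⟶ relTerm T f t :=
    fun t =>
      { app := fun M => P.map (sπ T M t)
        naturality := fun M N φ =>
          ((P.map_comp _ _).symm.trans (congrArg P.map (map_sπ T M φ t))).trans (P.map_comp _ _) }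
  let sι : ∀ (t : Idx T n) (M : X.Modules), (CechOX.pushRestr (opn T t)).obj M ⟶ ((cxSh T).obj M).X n :=
    fun t M => Pi.lift (f := fun s : Idx T n => (CechOX.pushRestr (opn T s)).obj M) fun s =>
      if h : t = s then eqToHom (by rw [h]) else 0
  have sιπ : ∀ (t s : Idx T n) (M : X.Modules),
      sι t M ≫ sπ T M s = if h : t = s then eqToHom (by rw [h]) else 0 :=
    fun t s M => Pi.lift_π _ s
  let ι : ∀ t : Idx T n, relTerm T f t ⟶ relCx T f ⋙ HomologicalComplex.eval S.Modules (ComplexShape.up ℕ) n :=
    fun t =>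
      { app := fun M => P.map (sι t M)
        naturality := fun M N φ => by
          refine ((P.map_comp _ _).symm.trans (congrArg P.map ?_)).trans (P.map_comp _ _)
          refine Pi.hom_ext _ _ fun (s : Idx T n) => ?_
          change ((CechOX.pushRestr (opn T t)).map φ ≫ sι t N) ≫ sπ T N s =
            (sι t M ≫ ((cxSh T).map φ).f n) ≫ sπ T N s
          rw [Category.assoc, Category.assoc, sιπ, map_sπ, ← Category.assoc, sιπ]
          split_ifs with h
          · subst h; simp
          · simp }
  refine quasiIso_map_of_sum _ (relTerm T f) π ι (fun M => ?_) _ fun t => ?_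
  · have h : ∑ t, sπ T M t ≫ sι t M = 𝟙 _ := by
      refine Pi.hom_ext _ _ fun (s : Idx T n) => ?_
      change (∑ t, sπ T M t ≫ sι t M) ≫ sπ T M s = 𝟙 _ ≫ sπ T M s
      rw [Preadditive.sum_comp, Finset.sum_eq_single s (fun b _ hb => by
        rw [Category.assoc, sιπ, dif_neg hb, comp_zero]) (fun hs => (hs (Finset.mem_univ s)).elim),
        Category.assoc, sιπ, dif_pos rfl, eqToHom_refl, Category.comp_id, Category.id_comp]
    calc ∑ t, (π t).app M ≫ (ι t).app M = ∑ t, P.map (sπ T M t ≫ sι t M) :=
          Finset.sum_congr rfl fun t _ => (P.map_comp _ _).symm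
      _ = 𝟙 _ := by rw [← Functor.map_sum, h]; exact P.map_id _
  · let j := (opn T t).ι
    let R' := Scheme.Modules.restrictFunctor j
    have : PreservesFiniteColimits R' :=
      haveI : PreservesColimitsOfSize.{0, 0} R' := (Scheme.Modules.restrictAdjunction j).leftAdjoint_preservesColimits
      PreservesColimitsOfSize.preservesFiniteColimits _
    have : PreservesFiniteLimits R' :=
      haveI : PreservesLimitsOfSize.{0, 0} R' := (CxOX.extZeroAdj j).rightAdjoint_preservesLimits
      PreservesLimitsOfSize.preservesFiniteLimits _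
    have hP : ∀ {Y Z : Scheme.{u}} (g : Y ⟶ Z), PreservesFiniteLimits (Scheme.Modules.pushforward g) :=
      fun g =>
        haveI : PreservesLimitsOfSize.{0, 0} (Scheme.Modules.pushforward g) :=
          (Scheme.Modules.pullbackPushforwardAdjunction g).rightAdjoint_preservesLimits
        PreservesLimitsOfSize.preservesFiniteLimits _
    have := hP f
    have := hP j
    have : IsAffineHom (j ≫ f) := haff t
    have hFV : Coh.IsQCoh (R'.obj F) := by
      have : F.IsQuasicoherent := hF
      exact inferInstanceAs ((F.restrict j).IsQuasicoherent)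
    rw [CohDer42.quasiIso_map_ι'_iff, CohDer42.quasiIso_map_ι_iff]
    refine ⟨inferInstance, fun i hi => ?_⟩
    obtain ⟨i, rfl⟩ : ∃ k, i = k + 1 := ⟨i - 1, by omega⟩
    obtain ⟨e⟩ := QC70.nonempty_rightDerived_comp_iso R' (Scheme.Modules.pushforward (j ≫ f))
      (fun I hI => @QC70.injective_restrict _ _ j _ I hI) F
      (fun m => QC70.isZero_rightDerived_of_preservesHomology R' F m) (i + 1)
    let α : relTerm T f t ≅ R' ⋙ Scheme.Modules.pushforward (j ≫ f) :=
      Functor.associator _ _ _ ≪≫ Functor.isoWhiskerLeft R' (Scheme.Modules.pushforwardComp j f)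
    refine ((isZero_rightDerived_pushforward (j ≫ f) _ hFV i).of_iso e.symm).of_iso
      { hom := (NatTrans.rightDerived α.hom (i + 1)).app F
        inv := (NatTrans.rightDerived α.inv (i + 1)).app F
        hom_inv_id := by
          rw [← NatTrans.comp_app, ← NatTrans.rightDerived_comp, α.hom_inv_id, NatTrans.rightDerived_id]
          rfl
        inv_hom_id := by
          rw [← NatTrans.comp_app, ← NatTrans.rightDerived_comp, α.inv_hom_id, NatTrans.rightDerived_id]
          rfl }

/-- The complex of a contractible finite affine system computes `Rf_*`. -/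
theorem nonempty_relCx_iso_Rpush [∀ n, Finite (Idx T n)]
    (haff : ∀ n (t : Idx T n), IsAffineHom ((opn T t).ι ≫ f)) (hc : ∀ x, Nonempty (Cone T x))
    (F : X.Modules) (hF : Coh.IsQCoh F) [DCoh.HasRpush f] :
    Nonempty (DCoh.toD S (((relCx T f).obj F).extend ComplexShape.embeddingUpNat) ≅
      (DCoh.Rpush f).obj (DCoh.inD X F)) := by
  let R : InjectiveResolution F := injectiveResolution F
  let I := R.cochainComplex
  have hI : ∀ q < 0, IsZero (I.X q) := fun q hq => CochainComplex.isZero_of_isStrictlyGE I 0 q hq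
  have hres : ∀ q, Resolves T (I.X q) := fun q => resolves_of_injective hc (I.X q)
  obtain ⟨e⟩ := nonempty_Q_iso (relCx T f) (Scheme.Modules.pushforward f) (relAug T f) (relAug_d T f)
    I hI R.ι' (fun n => quasiIso_relCx_map T f (haff n) F hF R) (fun q => mono_relAug T f (hres q))
    (fun q => exact_relAug T f (hres q)) (fun q n => exactAt_relCx T f (hres q) n)
  let qQ := DerivedCategory.quotientCompQhIso X.Modules
  let qQ' := DerivedCategory.quotientCompQhIso S.Modules
  let c := ((Scheme.Modules.pushforward f).mapHomotopyCategoryFactors (ComplexShape.up ℤ)).app I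
  have hu := DCX42.isIso_pushUnit f I inferInstance
  exact ⟨e ≪≫ (qQ'.app _).symm ≪≫ DerivedCategory.Qh.mapIso c.symm ≪≫ @asIso _ _ _ _ _ hu ≪≫
    (DCoh.Rpush f).mapIso (qQ.app I) ≪≫
    (DCoh.Rpush f).mapIso (asIso (DerivedCategory.Q.map R.ι')).symm ≪≫
    (DCoh.Rpush f).mapIso ((DerivedCategory.singleFunctorIsoCompQ X.Modules 0).app F).symm⟩

end Groth.Agent.Cx47
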